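import Cfsg.Agent.Known.SLMinDegree.KBound

/-! The degree bound for special linear groups. -/

set_option autoImplicit false
set_option linter.unusedSectionVars false

open Matrix

namespace Cfsg.Lib.SLMinDeg

universe u v

variable {F : Type u} [Field F] [Fintype F]

/-- `1 + q + ⋯ + q^(n-1)`. -/
def S (q n : ℕ) : ℕ := ∑ i ∈ Finset.range n, q ^ i

theorem S_succ (q n : ℕ) : S q (n + 1) = q ^ n + S q n := by
  rw [S, Finset.sum_range_succ, add_comm]; rfl

theorem S_mul (q n : ℕ) (hq : 1 ≤ q) : S q n * (q - 1) + 1 = q ^ n := by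
  rw [S, geom_sum_mul_of_one_le hq, Nat.sub_add_cancel (Nat.one_le_pow _ _ hq)]

theorem card_class_eq {n : ℕ} (hn : 2 ≤ n) :
    Nat.card {x : Matrix.SpecialLinearGroup (Fin (n + 1)) F //
        IsConj (qf (Pi.single ⟨0, by omega⟩ 1)) x} =
      S (Fintype.card F) (n + 1) * (Fintype.card F ^ n - 1) := by
  have hq := Fintype.one_lt_card (α := F)
  have h := card_class (F := F) hn
  have h' := S_mul (Fintype.card F) (n + 1) hq.le
  apply Nat.eq_of_mul_eq_mul_left (by omega : 0 < Fintype.card F - 1)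
  rw [h, show Fintype.card F ^ (n + 1) - 1 = S (Fintype.card F) (n + 1) * (Fintype.card F - 1) by omega]
  ring

section

variable {n : ℕ} {M : Type v} [AddCommGroup M] [Module ℂ M] [FiniteDimensional ℂ M]
  (ρ : Matrix.SpecialLinearGroup (Fin (n + 1)) F →* Module.End ℂ M)

/-- Either the dimension is at least `2 (q ^ n - 1)`, or there is the divisibility. -/
theorem cases_mm (hirr : IsIrr ρ) (hn : 2 ≤ n) (hd : 2 ≤ Module.finrank ℂ M) :
    2 * (Fintype.card F ^ n - 1) ≤ Module.finrank ℂ M ∨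
      (mm ρ hn = 1 ∧ Module.finrank ℂ M = ff ρ + (Fintype.card F ^ n - 1) ∧
        ((ff ρ + (Fintype.card F ^ n - 1) : ℕ) : ℤ) ∣
          ((S (Fintype.card F) (n + 1) * (Fintype.card F ^ n - 1) : ℕ) : ℤ) * ((ff ρ : ℤ) - 1)) := by
  have h0 := dim_eq ρ hn
  have h1 := mm_pos ρ hirr hn hd
  by_cases hm : mm ρ hn = 1
  · right
    rw [hm, one_mul] at h0
    refine ⟨hm, h0, ?_⟩
    have := mm_dvd ρ hirr hn hd hm
    rwa [card_class_eq hn, h0] at this
  · left
    have : 2 * (Fintype.card F ^ n - 1) ≤ mm ρ hn * (Fintype.card F ^ n - 1) :=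
      Nat.mul_le_mul_right _ (by omega)
    omega

/-- The root-fixed space splits when it is moved. -/
theorem split_moved (hirr : IsIrr ρ) (hn : 3 ≤ n) (hd : 2 ≤ Module.finrank ℂ M) (hf : ff ρ ≠ 0)
    {P : ℕ → Prop} {L : ℕ} (hP : DimProp.{u, v} (Matrix.SpecialLinearGroup (Fin n) F) P)
    (hL : ∀ d, P d → L ≤ d) :
    ∃ k r, ff ρ = k + r ∧ k ^ 2 ≤ Fintype.card F - 1 ∧ (P r ∨ 2 * L ≤ r) := by
  classical
  obtain ⟨A, x, hx, hne⟩ := moved ρ hirr (by omega) hd hf
  obtain ⟨X, hX, hnf, he⟩ := exists_nofix ρ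
  refine ⟨_, _, he, finrank_Kfix_sq_le ρ hirr (by omega) hd, ?_⟩
  have hX0 : X ≠ ⊥ := fun h => by
    rw [h, finrank_bot, add_zero] at he
    have : Kfix ρ = Wsp ρ := Submodule.eq_of_le_of_finrank_eq inf_le_left he.symm
    exact hne (((mem_Kfix ρ).mp (this.symm ▸ hx)).2 A)
  exact nofix_dim (ρ.comp (emb (n := n)))
    (Cfsg.Lib.Classical.SL_commutator_eq_top (by rw [Fintype.card_fin]; omega)) hP hL hX hX0 hnf

end

/-- Crude bound. -/
theorem crude (n : ℕ) (hn : 2 ≤ n) :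
    DimProp.{u, v} (Matrix.SpecialLinearGroup (Fin (n + 1)) F) (fun d => Fintype.card F ^ n - 1 ≤ d) := by
  intro M _ _ _ ρ hirr hd
  rcases cases_mm ρ hirr hn hd with h | ⟨-, h, -⟩ <;> omega

/-- `SL₃`: the next degree after `q² - 1`. -/
theorem next_three :
    DimProp.{u, v} (Matrix.SpecialLinearGroup (Fin (2 + 1)) F) (fun d => d = Fintype.card F ^ 2 - 1 ∨
      Fintype.card F ^ 2 - 1 + (Fintype.card F - 1) ≤ d) := by
  intro M _ _ _ ρ hirr hd
  have hle : Fintype.card F - 1 ≤ Fintype.card F ^ 2 - 1 :=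
    Nat.sub_le_sub_right (Nat.le_self_pow two_ne_zero _) 1
  rcases cases_mm ρ hirr le_rfl hd with h | ⟨-, h, -⟩
  · right; omega
  · by_cases hf : ff ρ = 0
    · left; omega
    · have := moved_two ρ (moved ρ hirr le_rfl hd hf)
      right; omega

/-- `SL₄`: the next degree after `q³ - 1`. -/
theorem next_four :
    DimProp.{u, v} (Matrix.SpecialLinearGroup (Fin (3 + 1)) F) (fun d => d = Fintype.card F ^ 3 - 1 ∨
      Fintype.card F ^ 3 - 1 + (Fintype.card F ^ 2 - 1) ≤ d) := by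
  intro M _ _ _ ρ hirr hd
  have hle : Fintype.card F ^ 2 - 1 ≤ Fintype.card F ^ 3 - 1 :=
    Nat.sub_le_sub_right (Nat.pow_le_pow_right Fintype.card_pos (by norm_num)) 1
  rcases cases_mm ρ hirr (by norm_num) hd with h | ⟨-, h, -⟩
  · right; omega
  · by_cases hf : ff ρ = 0
    · left; omega
    · obtain ⟨k, r, he, -, hr⟩ := split_moved ρ hirr le_rfl hd hf (crude.{u, v} (F := F) 2 le_rfl) (fun _ h => h)
      right
      rcases hr with hr | hr <;> omega

theorem not_dvd_three {q f : ℕ} (hq : 2 ≤ q) (h10 : q ≠ 10) (h2 : q ≠ 2) (h4 : q ≠ 4)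
    (hf : f = q - 1 ∨ f = q) :
    ¬ ((f + (q ^ 2 - 1) : ℕ) : ℤ) ∣ ((S q (2 + 1) * (q ^ 2 - 1) : ℕ) : ℤ) * ((f : ℤ) - 1) := by
  intro h
  have h1 : 1 ≤ q ^ 2 := Nat.one_le_pow _ _ (by omega)
  have hS : S q (2 + 1) = 1 + q + q ^ 2 := by simp [S, Finset.sum_range_succ]
  rw [hS] at h
  push_cast [Nat.cast_sub h1] at h
  rcases hf with rfl | rfl
  · push_cast [Nat.cast_sub (show 1 ≤ q by omega)] at h
    have h' : ((q : ℤ) + 2) * ((q : ℤ) - 1) ∣ ((1 + q + q ^ 2) * (q + 1) * ((q : ℤ) - 2)) * ((q : ℤ) - 1) := by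
      convert h using 1 <;> ring
    have h3 := (mul_dvd_mul_iff_right (show ((q : ℤ) - 1) ≠ 0 by omega)).mp h'
    have h4' : ((q : ℤ) + 2) ∣ 12 := by
      have e : ((1 + q + q ^ 2 : ℤ) * (q + 1) * ((q : ℤ) - 2)) =
          ((q : ℤ) + 2) * ((q : ℤ) ^ 3 - 2 * q ^ 2 + 2 * q - 7) + 12 := by ring
      rw [e] at h3
      exact (dvd_add_right (dvd_mul_right _ _)).mp h3
    have h5 : q + 2 ∣ 12 := by exact_mod_cast h4'
    have h6 : q ≤ 10 := by have := Nat.le_of_dvd (by norm_num) h5; omega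
    interval_cases q <;> omega
  · have e : ((1 + (f : ℤ) + f ^ 2) * (f ^ 2 - 1)) * (f - 1) =
        ((f : ℤ) + (f ^ 2 - 1)) * ((f : ℤ) ^ 3 - f ^ 2 + f - 3) + (4 * (f : ℤ) - 2) := by ring
    have h3 : ((f : ℤ) + (f ^ 2 - 1)) ∣ 4 * (f : ℤ) - 2 := by
      rw [e] at h
      exact (dvd_add_right (dvd_mul_right _ _)).mp h
    have hf3 : (3 : ℤ) ≤ (f : ℤ) := by omega
    have := Int.le_of_dvd (by omega) h3
    nlinarith

theorem not_dvd_generic {q n : ℕ} (hq : 2 ≤ q) (hn : 3 ≤ n) :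
    ¬ ((S q n - 1 + (q ^ n - 1) : ℕ) : ℤ) ∣
      ((S q (n + 1) * (q ^ n - 1) : ℕ) : ℤ) * (((S q n - 1 : ℕ) : ℤ) - 1) := by
  intro h
  have hS := S_mul q n (by omega)
  have hS' := S_succ q n
  have hS3 : q ^ 2 + q + 1 ≤ S q n := by
    have : S q 3 ≤ S q n := Finset.sum_le_sum_of_subset (Finset.range_subset_range.mpr hn)
    have e : S q 3 = 1 + q + q ^ 2 := by simp [S, Finset.sum_range_succ]
    omega
  set s := S q n
  rw [hS', ← hS] at h
  push_cast [Nat.cast_sub (show 1 ≤ s by omega), Nat.cast_sub (show 1 ≤ q by omega),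
    Nat.cast_sub (show 1 ≤ s * (q - 1) + 1 by omega)] at h
  have h2 : ((q : ℤ) * s - 1) ∣ 2 * ((q : ℤ) - 1) * (1 - 2 * q) := by
    have hA : ((q : ℤ) * s - 1) ∣ (q : ℤ) ^ 2 * (((s : ℤ) * (q - 1) + 1 + s) * (s * (q - 1) + 1 - 1) * (s - 1 - 1)) := by
      refine Dvd.dvd.mul_left ?_ _
      convert h using 1
      all_goals first | ring | rfl
    have e : (q : ℤ) ^ 2 * (((s : ℤ) * (q - 1) + 1 + s) * (s * (q - 1) + 1 - 1) * (s - 1 - 1)) -
        2 * ((q : ℤ) - 1) * (1 - 2 * q) =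
        ((q : ℤ) * s - 1) * (((q : ℤ) - 1) * ((q : ℤ) * s * ((q : ℤ) * s - 2 * q) +
          2 * ((q : ℤ) * s - 2 * q) + 2)) := by ring
    have := dvd_sub hA (Dvd.intro _ e.symm)
    rwa [sub_sub_cancel] at this
  have h3 : ((q : ℤ) * s - 1) ∣ 2 * ((q : ℤ) - 1) * (2 * q - 1) := by
    rw [← dvd_neg]; convert h2 using 1
    all_goals first | ring | rfl
  have hq' : (2 : ℤ) ≤ q := by omega
  have hs' : (q : ℤ) ^ 2 + q + 1 ≤ s := by exact_mod_cast hS3
  have := Int.le_of_dvd (mul_pos (by omega) (by omega)) h3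
  rcases Nat.lt_or_ge q 3 with h | h
  · obtain rfl : q = 2 := by omega
    push_cast at *
    omega
  · have h3' : (3 : ℤ) ≤ q := by omega
    nlinarith [mul_le_mul_of_nonneg_left hs' (show (0 : ℤ) ≤ q by omega),
      mul_nonneg (mul_nonneg (show (0 : ℤ) ≤ q by omega) (show (0 : ℤ) ≤ q by omega)) (sub_nonneg.mpr h3')]

theorem main_bound : ∀ n, 2 ≤ n →
    ¬ (n = 2 ∧ (Fintype.card F = 2 ∨ Fintype.card F = 4)) ∧
      ¬ (n = 3 ∧ (Fintype.card F = 2 ∨ Fintype.card F = 3)) →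
    DimProp.{u, v} (Matrix.SpecialLinearGroup (Fin (n + 1)) F)
      (fun d => S (Fintype.card F) (n + 1) - 1 ≤ d) := by
  intro n
  induction n using Nat.strong_induction_on with
  | _ n ih =>
  intro hn hex M _ _ _ ρ hirr hd
  have hq := Fintype.one_lt_card (α := F)
  have hS := S_mul (Fintype.card F) n hq.le
  have hS' := S_succ (Fintype.card F) n
  have hSQ : S (Fintype.card F) n ≤ Fintype.card F ^ n - 1 := by
    have : S (Fintype.card F) n ≤ S (Fintype.card F) n * (Fintype.card F - 1) :=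
      Nat.le_mul_of_pos_right _ (by omega)
    omega
  rcases cases_mm ρ hirr hn hd with h | ⟨hm, hdim, hdvd⟩
  · omega
  have hf : ff ρ ≠ 0 := ff_ne_zero ρ hn hm hex
  suffices S (Fintype.card F) n ≤ ff ρ by omega
  by_cases hn2 : n = 2
  · subst hn2
    have hlow := moved_two ρ (moved ρ hirr le_rfl hd hf)
    have hpp := FiniteField.isPrimePow_card F
    have h10 : Fintype.card F ≠ 10 := fun e => by
      rw [e, isPrimePow_nat_iff] at hpp
      obtain ⟨p, k, hp, hk, he⟩ := hpp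
      have h25 : p ∣ 2 * 5 := by norm_num; exact he ▸ dvd_pow_self p hk.ne'
      rcases (Nat.Prime.dvd_mul hp).mp h25 with h | h
      · obtain rfl := (Nat.prime_dvd_prime_iff_eq hp Nat.prime_two).mp h
        have : 5 ∣ 2 ^ k := he ▸ (by norm_num)
        have := (Nat.prime_dvd_prime_iff_eq Nat.prime_five Nat.prime_two).mp (Nat.prime_five.dvd_of_dvd_pow this)
        omega
      · obtain rfl := (Nat.prime_dvd_prime_iff_eq hp Nat.prime_five).mp h
        have : 2 ∣ 5 ^ k := he ▸ (by norm_num)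
        have := (Nat.prime_dvd_prime_iff_eq Nat.prime_two Nat.prime_five).mp (Nat.prime_two.dvd_of_dvd_pow this)
        omega
    have e2 : S (Fintype.card F) 2 = 1 + Fintype.card F := by simp [S, Finset.sum_range_succ]
    by_contra hlt
    have := hex.1
    exact not_dvd_three (f := ff ρ) (by omega) h10 (by omega) (by omega) (by omega) hdvd
  have hn3 : 3 ≤ n := by omega
  obtain ⟨n', rfl⟩ : ∃ n', n = n' + 1 := ⟨n - 1, by omega⟩
  by_cases hsub : ¬ (n' = 2 ∧ (Fintype.card F = 2 ∨ Fintype.card F = 4)) ∧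
      ¬ (n' = 3 ∧ (Fintype.card F = 2 ∨ Fintype.card F = 3))
  · obtain ⟨k, r, he, -, hr⟩ := split_moved ρ hirr hn3 hd hf (ih n' (by omega) (by omega) hsub) (fun _ h => h)
    by_contra hlt
    have he' : ff ρ = S (Fintype.card F) (n' + 1) - 1 := by rcases hr with hr | hr <;> omega
    rw [he'] at hdvd
    exact not_dvd_generic (by omega) hn3 hdvd
  · by_contra hlt
    have hcase : (n' = 2 ∧ Fintype.card F = 4) ∨ (n' = 3 ∧ Fintype.card F = 2) ∨ (n' = 3 ∧ Fintype.card F = 3) := by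
      have := hex.2
      omega
    rcases hcase with ⟨rfl, hq4⟩ | ⟨rfl, hq4⟩ | ⟨rfl, hq4⟩
    · obtain ⟨k, r, he, hk, hr⟩ := split_moved ρ hirr hn3 hd hf (next_three.{u, v} (F := F))
        (L := Fintype.card F ^ 2 - 1) (fun d h => by rcases h with h | h <;> omega)
      simp only [hq4, S, Finset.sum_range_succ, Finset.sum_range_zero] at hdvd hlt hr hk
      norm_num at hdvd hlt hr hk
      have hk1 : k ≤ 1 := by nlinarith
      have : ff ρ = 15 ∨ ff ρ = 16 ∨ ff ρ = 18 ∨ ff ρ = 19 ∨ ff ρ = 20 := by omega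
      rcases this with h | h | h | h | h <;> rw [h] at hdvd <;> norm_num at hdvd
    · obtain ⟨k, r, he, hk, hr⟩ := split_moved ρ hirr hn3 hd hf (next_four.{u, v} (F := F))
        (L := Fintype.card F ^ 3 - 1) (fun d h => by rcases h with h | h <;> omega)
      simp only [hq4, S, Finset.sum_range_succ, Finset.sum_range_zero] at hdvd hlt hr hk
      norm_num at hdvd hlt hr hk
      have hk1 : k ≤ 1 := by nlinarith
      have hb : (ff ρ = 7 ∨ ff ρ = 8 ∨ 10 ≤ ff ρ) ∧ ff ρ ≤ 14 := by omega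
      obtain ⟨hb1, hb2⟩ := hb
      interval_cases hfv : ff ρ <;> first | omega | (rw [hfv] at hdvd; norm_num at hdvd) | norm_num at hdvd
    · obtain ⟨k, r, he, hk, hr⟩ := split_moved ρ hirr hn3 hd hf (next_four.{u, v} (F := F))
        (L := Fintype.card F ^ 3 - 1) (fun d h => by rcases h with h | h <;> omega)
      simp only [hq4, S, Finset.sum_range_succ, Finset.sum_range_zero] at hdvd hlt hr hk
      norm_num at hdvd hlt hr hk
      have hk1 : k ≤ 1 := by nlinarith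
      have hb : (ff ρ = 26 ∨ ff ρ = 27 ∨ 34 ≤ ff ρ) ∧ 26 ≤ ff ρ ∧ ff ρ ≤ 39 := by omega
      obtain ⟨hb1, hb2, hb3⟩ := hb
      interval_cases hfv : ff ρ <;> first | omega | (rw [hfv] at hdvd; norm_num at hdvd) | norm_num at hdvd

end Cfsg.Lib.SLMinDeg
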