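import Cfsg.Agent.Known.SLMinDegree.Struct

/-! Multiplicity one: divisibility and a vector fixed by the root subgroup. -/

set_option autoImplicit false
set_option linter.unusedSectionVars false

open Matrix
open scoped commutatorElement

namespace Cfsg.Lib.SLMinDeg

open Cfsg.Lib.RepEigen

/-- Commutators of elements preserving a line fix it. -/
theorem comm_fix {G M : Type*} [Group G] [AddCommGroup M] [Module ℂ M] (ρ : G →* Module.End ℂ M)
    {L : Submodule ℂ M} (hL : Module.finrank ℂ L = 1) {g h : G} (hg : ∀ x ∈ L, ρ g x ∈ L)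
    (hh : ∀ x ∈ L, ρ h x ∈ L) {x : M} (hx : x ∈ L) : ρ ⁅g, h⁆ x = x := by
  obtain ⟨v, hv0, hv⟩ := finrank_eq_one_iff'.mp hL
  have hv' : (v : M) ≠ 0 := fun e => hv0 (Subtype.ext e)
  have key : ∀ k : G, (∀ x ∈ L, ρ k x ∈ L) → ∃ a : ℂ, a ≠ 0 ∧
      ρ k (v : M) = a • (v : M) ∧ ρ k⁻¹ (v : M) = a⁻¹ • (v : M) := fun k hk => by
    obtain ⟨a, ha⟩ := hv ⟨_, hk v v.2⟩
    have ha' : ρ k (v : M) = a • (v : M) := (congrArg Subtype.val ha).symm
    have h1 : ρ k⁻¹ (ρ k (v : M)) = v := by
      rw [← Module.End.mul_apply, ← map_mul, inv_mul_cancel, map_one, Module.End.one_apply]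
    rw [ha', map_smul] at h1
    have ha0 : a ≠ 0 := fun e => hv' (by rw [e, zero_smul] at h1; exact h1.symm)
    exact ⟨a, ha0, ha', by rw [← smul_right_inj ha0, h1, smul_smul, mul_inv_cancel₀ ha0, one_smul]⟩
  obtain ⟨a, ha0, ha, ha'⟩ := key g hg
  obtain ⟨b, hb0, hb, hb'⟩ := key h hh
  obtain ⟨c, hc⟩ := hv ⟨x, hx⟩
  have hcx : x = c • (v : M) := (congrArg Subtype.val hc).symm
  simp only [hcx, map_smul, commutatorElement_def, map_mul, Module.End.mul_apply, hb', ha', hb, ha,
    smul_smul]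
  congr 1
  field_simp

variable {F : Type*} [Field F] [Fintype F] {n : ℕ}

theorem exists_pow_ne_one {k : ℕ} (hk : ¬ (Fintype.card F - 1 ∣ k)) : ∃ t : F, t ≠ 0 ∧ t ^ k ≠ 1 := by
  classical
  obtain ⟨g, hg⟩ := IsCyclic.exists_generator (α := Fˣ)
  refine ⟨g, g.ne_zero, fun h => hk ?_⟩
  rw [← Fintype.card_units, ← Nat.card_eq_fintype_card, ← orderOf_eq_card_of_forall_mem_zpowers hg]
  exact orderOf_dvd_of_pow_eq_one (Units.ext (by push_cast; exact h))

theorem dia_conj_transvection {ι : Type*} [Fintype ι] [DecidableEq ι] (d : ι → F) (hd : ∏ i, d i = 1)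
    {i j : ι} (hij : i ≠ j) (c : F) :
    dia d hd * Matrix.SpecialLinearGroup.transvection hij c * (dia d hd)⁻¹ =
      Matrix.SpecialLinearGroup.transvection hij (d i * c * (d j)⁻¹) := by
  rw [← tv_single' hij c (single_dot_single hij 1 c),
    ← tv_single' hij (d i * c * (d j)⁻¹) (single_dot_single hij 1 _)]
  have hdj : d j ≠ 0 := fun e => by rw [Finset.prod_eq_zero (Finset.mem_univ j) e] at hd; exact zero_ne_one hd
  rw [tv_conj]
  apply sl_ext
  simp only [coe_tv, coe_dia, dia_inv d hd (show ∏ i, (d i)⁻¹ = 1 by rw [Finset.prod_inv_distrib, hd, inv_one])]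
  congr 1
  ext a b
  rw [vecMulVec_apply, vecMulVec_apply, mulVec_diagonal, vecMul_diagonal]
  by_cases h1 : a = i <;> by_cases h2 : b = j <;> simp_all

theorem transvection_comm_dia {ι : Type*} [Fintype ι] [DecidableEq ι] (d : ι → F) (hd : ∏ i, d i = 1)
    {i j : ι} (hij : i ≠ j) (c : F) :
    ⁅dia d hd, Matrix.SpecialLinearGroup.transvection hij c⁆ =
      Matrix.SpecialLinearGroup.transvection hij ((d i * (d j)⁻¹ - 1) * c) := by
  rw [commutatorElement_def, dia_conj_transvection, Matrix.SpecialLinearGroup.transvection_inv,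
    ← tv_single' hij _ (single_dot_single hij 1 (d i * c * (d j)⁻¹)), ← tv_single' hij _ (single_dot_single hij 1 (-c)),
    ← tv_add_left, ← tv_single' hij _ (single_dot_single hij 1 _)]
  refine tv_congr ?_ rfl
  rw [← Pi.single_add]
  congr 1
  ring

variable {M : Type*} [AddCommGroup M] [Module ℂ M] [FiniteDimensional ℂ M]
  (ρ : Matrix.SpecialLinearGroup (Fin (n + 1)) F →* Module.End ℂ M)

/-- Diagonal elements with `d 0 = d i` preserve a weight space of a weight supported at `i`. -/
theorem dia_map_eig (d : Fin (n + 1) → F) (hd : ∏ i, d i = 1) (k : Fin n) (hk : d 0 = d k.succ)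
    {x : M} (hx : x ∈ RepEigen.eig ρ (qf : (Fin n → F) → _) (psiv (Pi.single k 1))) :
    ρ (dia d hd) x ∈ RepEigen.eig ρ (qf : (Fin n → F) → _) (psiv (Pi.single k 1)) := by
  have hd0 : ∀ i, d i ≠ 0 := fun i e => by
    rw [Finset.prod_eq_zero (Finset.mem_univ i) e] at hd; exact zero_ne_one hd
  refine map_mem_eig ρ (fun φ i => d 0 * φ i * (d i.succ)⁻¹) (fun φ => ⟨fun i => (d 0)⁻¹ * φ i * d i.succ, ?_⟩)
    (fun φ => ?_) (fun φ => ?_) hx
  · funext i
    have := hd0 0
    have := hd0 i.succ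
    field_simp
  · rw [qf, qf, tv_conj]
    apply sl_ext
    simp only [coe_tv, coe_dia, dia_inv d hd (show ∏ i, (d i)⁻¹ = 1 by rw [Finset.prod_inv_distrib, hd, inv_one])]
    congr 1
    ext a b
    rw [vecMulVec_apply, vecMulVec_apply, mulVec_diagonal, vecMul_diagonal]
    cases b using Fin.cases with
    | zero => simp
    | succ b =>
      by_cases ha : a = 0
      · subst ha; simp; ring
      · simp [ha]
  · rw [psiv_apply, psiv_apply, dotProduct_single, dotProduct_single, mul_one, mul_one, ← hk]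
    congr 1
    field_simp [hd0 0]

theorem mm_dvd (hirr : ∀ U : Submodule ℂ M, (∀ g, ∀ x ∈ U, ρ g x ∈ U) → U = ⊥ ∨ U = ⊤) (hn : 2 ≤ n)
    (hd : 2 ≤ Module.finrank ℂ M) (hm : mm ρ hn = 1) :
    (Module.finrank ℂ M : ℤ) ∣
      (Nat.card {x : Matrix.SpecialLinearGroup (Fin (n + 1)) F //
        IsConj (qf (Pi.single ⟨0, by omega⟩ 1)) x} : ℤ) * ((ff ρ : ℤ) - 1) := by
  have : Nontrivial M := Module.nontrivial_of_finrank_pos (by omega : 0 < Module.finrank ℂ M)
  have : Representation.IsIrreducible (ρ : Representation ℂ _ M) := by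
    refine { exists_pair_ne := ⟨⊥, ⊤, fun h => bot_ne_top (congrArg Subrepresentation.toSubmodule h)⟩,
             eq_bot_or_eq_top := fun W => ?_ }
    · rcases hirr W.toSubmodule (fun g x hx => W.apply_mem_toSubmodule g hx) with h | h
      · exact Or.inl (Subrepresentation.toSubmodule_injective h)
      · exact Or.inr (Subrepresentation.toSubmodule_injective h)
  set g : Matrix.SpecialLinearGroup (Fin (n + 1)) F := qf (Pi.single ⟨0, by omega⟩ 1)
  have h := Cfsg.Lib.Chars.isIntegral_centralChar (ρ : Representation ℂ _ M) g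
  rw [← Cfsg.Lib.Chars.card_isConj] at h
  have htr : Representation.character (ρ : Representation ℂ _ M) g = (ff ρ : ℂ) - 1 := by
    show LinearMap.trace ℂ M (ρ g) = _
    rw [trace_qf ρ hn (by simp), hm, Nat.cast_one]
  rw [htr] at h
  set K := Nat.card {x : Matrix.SpecialLinearGroup (Fin (n + 1)) F // IsConj g x}
  set d := Module.finrank ℂ M
  obtain ⟨z, hz⟩ := Cfsg.Lib.Chars.int_of_isIntegral_rat (q := (K : ℚ) * ((ff ρ : ℚ) - 1) / d)
    (by push_cast; exact h)
  refine ⟨z, ?_⟩
  rw [div_eq_iff (by norm_cast; omega)] at hz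
  have : (((K : ℤ) * ((ff ρ : ℤ) - 1) : ℤ) : ℚ) = ((d * z : ℤ) : ℚ) := by push_cast; rw [hz]; ring
  exact_mod_cast this

theorem ff_ne_zero (hn : 2 ≤ n) (hm : mm ρ hn = 1)
    (hex : ¬ (n = 2 ∧ (Fintype.card F = 2 ∨ Fintype.card F = 4)) ∧
      ¬ (n = 3 ∧ (Fintype.card F = 2 ∨ Fintype.card F = 3))) : ff ρ ≠ 0 := by
  classical
  intro hf
  have hq := Fintype.one_lt_card (α := F)
  set k0 : Fin n := ⟨0, by omega⟩ with hk0
  set k1 : Fin n := ⟨1, by omega⟩ with hk1
  have h01 : k0 ≠ k1 := by simp [hk0, hk1]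
  set L := RepEigen.eig ρ (qf : (Fin n → F) → _) (psiv (Pi.single k1 1)) with hLdef
  have hL : Module.finrank ℂ L = 1 := by rw [hLdef, finrank_eig_psiv ρ hn (by simp), hm]
  have hpres : ∀ (i j : Fin n) (hij : i ≠ j) (c : F), j ≠ k1 → ∀ x ∈ L,
      ρ (emb (Matrix.SpecialLinearGroup.transvection hij c)) x ∈ L := by
    intro i j hij c hj x hx
    have := emb_map_eig ρ (Matrix.SpecialLinearGroup.transvection hij c) _ hx
    rwa [mulVec_transvection, Pi.single_eq_of_ne hj, mul_zero, Pi.single_zero, add_zero] at this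
  have hdia : ∀ (i : Fin n) (hi : i ≠ k0) (d : Fin (n + 1) → F) (hd : ∏ i, d i = 1),
      d 0 = d k1.succ → d i.succ * (d k0.succ)⁻¹ ≠ 1 → ∀ (c : F), ∀ x ∈ L,
      ρ (Matrix.SpecialLinearGroup.transvection ((Fin.succ_injective n).ne hi) c) x = x := by
    intro i hi d hd h0 hr c x hx
    have := comm_fix ρ hL (g := dia d hd)
      (h := Matrix.SpecialLinearGroup.transvection ((Fin.succ_injective n).ne hi)
        (c / (d i.succ * (d k0.succ)⁻¹ - 1)))
      (fun y hy => dia_map_eig ρ d hd k1 h0 hy)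
      (fun y hy => by rw [← emb_transvection hi]; exact hpres i k0 hi _ h01 y hy) hx
    rwa [transvection_comm_dia, mul_div_cancel₀ _ (sub_ne_zero.mpr hr)] at this
  have hfix : ∀ (i : Fin n) (hi : i ≠ k0) (c : F), ∀ x ∈ L,
      ρ (Matrix.SpecialLinearGroup.transvection ((Fin.succ_injective n).ne hi) c) x = x := by
    intro i hi c x hx
    by_cases hk : ∃ k : Fin n, k ≠ k0 ∧ k ≠ k1 ∧ k ≠ i
    · obtain ⟨k, hk_0, hk_1, hk_i⟩ := hk
      have := comm_fix ρ hL (g := emb (Matrix.SpecialLinearGroup.transvection hk_i.symm c))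
        (h := emb (Matrix.SpecialLinearGroup.transvection hk_0 (1 : F)))
        (fun y hy => hpres i k _ c hk_1 y hy) (fun y hy => hpres k k0 _ 1 h01 y hy) hx
      rw [← map_commutatorElement, Cfsg.Lib.Classical.transvection_commutator hk_i.symm hk_0 hi] at this
      rwa [emb_transvection] at this
    · push Not at hk
      have hi0 : (i : ℕ) ≠ 0 := fun e => hi (Fin.ext e)
      by_cases hn2 : n = 2
      · subst hn2
        have hi1 : i = k1 := Fin.ext (by have := i.isLt; simp only [hk1]; omega)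
        obtain ⟨t, ht0, ht⟩ := exists_pow_ne_one (F := F) (k := 3) (fun h => by
          have := (Nat.dvd_prime Nat.prime_three).mp h
          have := hex.1
          omega)
        refine hdia i hi ![t, (t * t)⁻¹, t] ?_ rfl ?_ c x hx
        · rw [Fin.prod_univ_three]; simp; field_simp
        · subst hi1
          show t * ((t * t)⁻¹)⁻¹ ≠ 1
          rw [inv_inv]; intro e; exact ht (by rw [← e]; ring)
      · have hn3 : n = 3 := by
          by_contra hn3
          by_cases h2 : (i : ℕ) = 2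
          · exact absurd (congrArg Fin.val (hk ⟨3, by omega⟩ (by simp [hk0]) (by simp [hk1]))) (by simp [h2])
          · exact absurd (congrArg Fin.val (hk ⟨2, by omega⟩ (by simp [hk0]) (by simp [hk1]))) (Ne.symm h2)
        subst hn3
        have hi2 : i = 2 := by
          have := congrArg Fin.val (hk 2 (by simp [hk0, Fin.ext_iff]) (by simp [hk1, Fin.ext_iff]))
          exact Fin.ext this.symm
        obtain ⟨t, ht0, ht⟩ := exists_pow_ne_one (F := F) (k := 2) (fun h => by
          have := (Nat.dvd_prime Nat.prime_two).mp h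
          have := hex.2
          omega)
        refine hdia i hi ![1, t⁻¹, 1, t] ?_ rfl ?_ c x hx
        · rw [Fin.prod_univ_four]; simp [ht0]
        · subst hi2
          show t * (t⁻¹)⁻¹ ≠ 1
          rw [inv_inv]; intro e; exact ht (by rw [← e]; ring)
  have hle : L ≤ RepEigen.eig ρ (cl k0.succ : (Fin n → F) → _) (1 : AddChar (Fin n → F) ℂ) := by
    intro x hx
    refine fix_cl ρ k0.succ fun i hij c => ?_
    cases i using Fin.cases with
    | zero =>
      rw [← qf_single]
      rw [hLdef, RepEigen.mem_eig] at hx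
      rw [hx, psiv_apply, single_dotProduct, Pi.single_eq_of_ne h01, mul_zero, AddChar.map_zero_eq_one, one_smul]
    | succ i => exact hfix i (fun h => hij (congrArg Fin.succ h)) c x hx
  have := Submodule.finrank_mono hle
  rw [hL, finrank_cl ρ hn, hf] at this
  omega

end Cfsg.Lib.SLMinDeg
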