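import Cfsg.Agent.Known.SLMinDegree.Basic

/-! The root subgroup, its characters, and the class of transvections. -/

set_option autoImplicit false
set_option linter.unusedSectionVars false

open Matrix

namespace Cfsg.Lib.SLMinDeg

variable {F : Type*} [Field F] {n : ℕ}

local notation "G" => Matrix.SpecialLinearGroup (Fin (n + 1)) F

theorem qf_dot (φ : Fin n → F) :
    (Fin.cons 0 φ : Fin (n + 1) → F) ⬝ᵥ (Pi.single 0 1 : Fin (n + 1) → F) = 0 := by
  rw [dotProduct_single, Fin.cons_zero, zero_mul]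

/-- The root subgroup `1 + e₀ ⊗ φ`. -/
def qf (φ : Fin n → F) : G := tv (Pi.single 0 1) (Fin.cons 0 φ) (qf_dot φ)

theorem cons_zero_add (φ ψ : Fin n → F) :
    (Fin.cons 0 (φ + ψ) : Fin (n + 1) → F) = Fin.cons 0 φ + Fin.cons 0 ψ := by
  ext i; cases i using Fin.cases <;> simp

theorem qf_add (φ ψ : Fin n → F) : (qf (φ + ψ) : G) = qf φ * qf ψ := by
  rw [qf, qf, qf, ← tv_add_right]
  exact tv_congr rfl (cons_zero_add φ ψ)

theorem emb_conj_qf (A : Matrix.SpecialLinearGroup (Fin n) F) (φ : Fin n → F) :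
    emb A * qf φ * (emb A)⁻¹ = qf (φ ᵥ* ((A⁻¹ : Matrix.SpecialLinearGroup (Fin n) F) : Matrix _ _ F)) := by
  rw [qf, tv_conj]
  refine tv_congr (emb_fix_col A) ?_
  rw [← map_inv, vecMul_emb]

theorem qf_single (j : Fin n) (c : F) :
    (qf (Pi.single j c) : G) = Matrix.SpecialLinearGroup.transvection (Fin.succ_ne_zero j).symm c := by
  rw [qf, ← tv_single (Fin.succ_ne_zero j).symm c (single_dot_single (Fin.succ_ne_zero j).symm c 1)]
  refine tv_congr rfl (funext fun i => ?_)
  cases i using Fin.cases with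
  | zero => simp [(Fin.succ_ne_zero j).symm]
  | succ i => simp [Pi.single_apply]

theorem mulVec_ne_zero {ι : Type*} [Fintype ι] [DecidableEq ι] (g : Matrix.SpecialLinearGroup ι F)
    {v : ι → F} (hv : v ≠ 0) : (g : Matrix ι ι F) *ᵥ v ≠ 0 := fun h => hv (by
  have := congrArg (fun w => ((g⁻¹ : Matrix.SpecialLinearGroup ι F) : Matrix ι ι F) *ᵥ w) h
  simpa only [mulVec_mulVec, ← Matrix.SpecialLinearGroup.coe_mul, inv_mul_cancel,
    Matrix.SpecialLinearGroup.coe_one, one_mulVec, mulVec_zero] using this)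

theorem vecMul_ne_zero {ι : Type*} [Fintype ι] [DecidableEq ι] (g : Matrix.SpecialLinearGroup ι F)
    {v : ι → F} (hv : v ≠ 0) : v ᵥ* (g : Matrix ι ι F) ≠ 0 := fun h => hv (by
  have := congrArg (fun w => w ᵥ* ((g⁻¹ : Matrix.SpecialLinearGroup ι F) : Matrix ι ι F)) h
  simpa only [vecMul_vecMul, ← Matrix.SpecialLinearGroup.coe_mul, mul_inv_cancel,
    Matrix.SpecialLinearGroup.coe_one, vecMul_one, zero_vecMul] using this)

/-- All non-trivial transvections are conjugate. -/
theorem isConj_tv (hn : 2 ≤ n) {u φ : Fin (n + 1) → F} (h : φ ⬝ᵥ u = 0) (hu : u ≠ 0) (hφ : φ ≠ 0) :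
    IsConj (qf (Pi.single ⟨0, by omega⟩ 1)) (tv u φ h : G) := by
  have h0 : ∃ k : Fin (n + 1), k ≠ 0 := ⟨Fin.last n, fun h => by
    have := congrArg Fin.val h
    simp at this; omega⟩
  have h1 : ∃ k : Fin n, k ≠ ⟨0, by omega⟩ := ⟨⟨1, by omega⟩, by simp⟩
  obtain ⟨g, hg⟩ := exists_mulVec_eq hu 0 h0
  set φ' := φ ᵥ* (g : Matrix (Fin (n + 1)) (Fin (n + 1)) F) with hφ'
  have hz : φ' 0 = 0 := by
    have : φ' ⬝ᵥ (Pi.single 0 1 : Fin (n + 1) → F) = 0 := by
      rw [hφ', ← dotProduct_mulVec, hg, h]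
    rwa [dotProduct_single, mul_one] at this
  have ht : Fin.tail φ' ≠ 0 := fun e => vecMul_ne_zero g hφ (by
    rw [← hφ', ← Fin.cons_self_tail φ', hz, e]
    ext i; cases i using Fin.cases <;> simp)
  obtain ⟨A, hA⟩ := exists_vecMul_eq ht ⟨0, by omega⟩ h1
  refine isConj_iff.mpr ⟨g * emb A, ?_⟩
  rw [_root_.mul_inv_rev, show g * emb A * qf (Pi.single ⟨0, by omega⟩ 1) * ((emb A)⁻¹ * g⁻¹) =
      g * (emb A * qf (Pi.single ⟨0, by omega⟩ 1) * (emb A)⁻¹) * g⁻¹ by group,
    emb_conj_qf, ← hA, vecMul_vecMul, ← Matrix.SpecialLinearGroup.coe_mul, mul_inv_cancel,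
    Matrix.SpecialLinearGroup.coe_one, vecMul_one, qf, tv_conj]
  refine tv_congr hg ?_
  rw [show (Fin.cons 0 (Fin.tail φ') : Fin (n + 1) → F) = φ' by
      rw [← hz]; exact Fin.cons_self_tail φ',
    hφ', vecMul_vecMul, ← Matrix.SpecialLinearGroup.coe_mul, mul_inv_cancel,
    Matrix.SpecialLinearGroup.coe_one, vecMul_one]

theorem isConj_qf (hn : 2 ≤ n) {φ : Fin n → F} (hφ : φ ≠ 0) :
    IsConj (qf (Pi.single ⟨0, by omega⟩ 1)) (qf φ : G) :=
  isConj_tv hn _ (by simp) (fun h => hφ (funext fun i => by simpa using congrFun h i.succ))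

/-! ### Characters -/

variable [Fintype F]

theorem exists_char : ∃ ψ : AddChar F ℂ, ψ.IsPrimitive := by
  obtain ⟨ψ, hψ⟩ := AddChar.exists_apply_ne_zero.mpr (one_ne_zero (α := F))
  exact ⟨ψ, AddChar.IsPrimitive.of_ne_one fun h => hψ (by rw [h]; rfl)⟩

/-- A fixed primitive character. -/
noncomputable def psi0 : AddChar F ℂ := exists_char.choose

theorem psi0_primitive : (psi0 (F := F)).IsPrimitive := exists_char.choose_spec

/-- The characters of the root subgroup. -/
noncomputable def psiv (v : Fin n → F) : AddChar (Fin n → F) ℂ :=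
  psi0.compAddMonoidHom (AddMonoidHom.mk' (fun φ => φ ⬝ᵥ v) fun a b => add_dotProduct a b v)

theorem psiv_apply (v φ : Fin n → F) : psiv v φ = psi0 (φ ⬝ᵥ v) := rfl

theorem psiv_zero : psiv (0 : Fin n → F) = 1 := by
  ext φ; simp [psiv_apply]

theorem psiv_injective : Function.Injective (psiv : (Fin n → F) → AddChar (Fin n → F) ℂ) := by
  classical
  intro v w h
  funext i
  refine AddChar.to_mulShift_inj_of_isPrimitive psi0_primitive (DFunLike.ext _ _ fun x => ?_)
  have := DFunLike.congr_fun h (Pi.single i x)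
  rw [psiv_apply, psiv_apply, single_dotProduct, single_dotProduct] at this
  rw [AddChar.mulShift_apply, AddChar.mulShift_apply, mul_comm (v i), mul_comm (w i)]
  exact this

theorem psiv_surjective : Function.Surjective (psiv : (Fin n → F) → AddChar (Fin n → F) ℂ) := by
  classical
  exact ((Fintype.bijective_iff_injective_and_card _).mpr ⟨psiv_injective, AddChar.card_eq.symm⟩).2

theorem psiv_conj (A : Matrix.SpecialLinearGroup (Fin n) F) (v φ : Fin n → F) :
    psiv ((A : Matrix (Fin n) (Fin n) F) *ᵥ v)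
        (φ ᵥ* ((A⁻¹ : Matrix.SpecialLinearGroup (Fin n) F) : Matrix (Fin n) (Fin n) F)) =
      psiv v φ := by
  rw [psiv_apply, psiv_apply, dotProduct_mulVec, vecMul_vecMul, ← Matrix.SpecialLinearGroup.coe_mul,
    inv_mul_cancel, Matrix.SpecialLinearGroup.coe_one, vecMul_one]

/-! ### Counting transvections -/

theorem card_fun_ne_zero (k : ℕ) :
    Nat.card {x : Fin k → F // x ≠ 0} = Fintype.card F ^ k - 1 := by
  classical
  rw [Nat.card_eq_fintype_card, Fintype.card_subtype_compl, Fintype.card_fun, Fintype.card_fin,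
    Fintype.card_subtype_eq]

variable (F n) in
/-- Pairs defining non-trivial transvections. -/
abbrev TPair := {p : (Fin (n + 1) → F) × (Fin (n + 1) → F) // p.1 ≠ 0 ∧ p.2 ≠ 0 ∧ p.2 ⬝ᵥ p.1 = 0}

theorem card_TPair (hn : 1 ≤ n) :
    Nat.card (TPair F n) = (Fintype.card F ^ (n + 1) - 1) * (Fintype.card F ^ n - 1) := by
  classical
  have h0 : ∃ k : Fin (n + 1), k ≠ 0 := ⟨Fin.last n, fun h => by
    have := congrArg Fin.val h
    simp at this; omega⟩
  choose g hg using fun u : {x : Fin (n + 1) → F // x ≠ 0} => exists_mulVec_eq u.2 0 h0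
  let e : TPair F n ≃ {x : Fin (n + 1) → F // x ≠ 0} × {x : Fin n → F // x ≠ 0} :=
    { toFun := fun p => (⟨p.1.1, p.2.1⟩,
        ⟨Fin.tail (p.1.2 ᵥ* (g ⟨p.1.1, p.2.1⟩ : Matrix (Fin (n + 1)) (Fin (n + 1)) F)), fun e => by
          set φ' := p.1.2 ᵥ* (g ⟨p.1.1, p.2.1⟩ : Matrix (Fin (n + 1)) (Fin (n + 1)) F) with hφ'
          have hz : φ' 0 = 0 := by
            have : φ' ⬝ᵥ (Pi.single 0 1 : Fin (n + 1) → F) = 0 := by
              rw [hφ', ← dotProduct_mulVec, hg, p.2.2.2]
            rwa [dotProduct_single, mul_one] at this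
          refine vecMul_ne_zero (g ⟨p.1.1, p.2.1⟩) p.2.2.1 ?_
          rw [← hφ', ← Fin.cons_self_tail φ', hz, e]
          ext i; cases i using Fin.cases <;> simp⟩)
      invFun := fun x => ⟨(x.1.1, (Fin.cons 0 x.2.1 : Fin (n + 1) → F) ᵥ*
          (((g x.1)⁻¹ : Matrix.SpecialLinearGroup (Fin (n + 1)) F) : Matrix _ _ F)), x.1.2,
        vecMul_ne_zero _ (fun h => x.2.2 (funext fun i => by simpa using congrFun h i.succ)), by
        show _ ⬝ᵥ x.1.1 = 0
        conv_lhs => arg 2; rw [← hg x.1]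
        rw [dotProduct_mulVec, vecMul_vecMul, ← Matrix.SpecialLinearGroup.coe_mul, inv_mul_cancel,
          Matrix.SpecialLinearGroup.coe_one, vecMul_one, qf_dot]⟩
      left_inv := fun p => by
        apply Subtype.ext
        refine Prod.ext rfl ?_
        set φ' := p.1.2 ᵥ* (g ⟨p.1.1, p.2.1⟩ : Matrix (Fin (n + 1)) (Fin (n + 1)) F) with hφ'
        have hz : φ' 0 = 0 := by
          have : φ' ⬝ᵥ (Pi.single 0 1 : Fin (n + 1) → F) = 0 := by
            rw [hφ', ← dotProduct_mulVec, hg, p.2.2.2]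
          rwa [dotProduct_single, mul_one] at this
        show (Fin.cons 0 (Fin.tail φ') : Fin (n + 1) → F) ᵥ* _ = _
        rw [show (Fin.cons 0 (Fin.tail φ') : Fin (n + 1) → F) = φ' by
            rw [← hz]; exact Fin.cons_self_tail φ',
          hφ', vecMul_vecMul, ← Matrix.SpecialLinearGroup.coe_mul, mul_inv_cancel,
          Matrix.SpecialLinearGroup.coe_one, vecMul_one]
      right_inv := fun x => by
        refine Prod.ext rfl (Subtype.ext ?_)
        show Fin.tail (((Fin.cons 0 x.2.1 : Fin (n + 1) → F) ᵥ*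
          (((g x.1)⁻¹ : G) : Matrix (Fin (n + 1)) (Fin (n + 1)) F)) ᵥ*
          (g x.1 : Matrix (Fin (n + 1)) (Fin (n + 1)) F)) = _
        rw [vecMul_vecMul, ← Matrix.SpecialLinearGroup.coe_mul, inv_mul_cancel,
          Matrix.SpecialLinearGroup.coe_one, vecMul_one, Fin.tail_cons] }
  rw [Nat.card_congr e, Nat.card_prod, card_fun_ne_zero, card_fun_ne_zero]

theorem card_class (hn : 2 ≤ n) :
    (Fintype.card F - 1) * Nat.card {x : G // IsConj (qf (Pi.single ⟨0, by omega⟩ 1)) x} =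
      (Fintype.card F ^ (n + 1) - 1) * (Fintype.card F ^ n - 1) := by
  classical
  rw [← card_TPair (F := F) (n := n) (by omega)]
  let π : TPair F n → {x : G // IsConj (qf (Pi.single ⟨0, by omega⟩ 1)) x} := fun p =>
    ⟨tv p.1.1 p.1.2 p.2.2.2, isConj_tv hn _ p.2.1 p.2.2.1⟩
  have hsurj : Function.Surjective π := by
    rintro ⟨x, hx⟩
    obtain ⟨c, hc⟩ := isConj_iff.mp hx
    rw [qf, tv_conj] at hc
    refine ⟨⟨((c : Matrix (Fin (n + 1)) (Fin (n + 1)) F) *ᵥ Pi.single 0 1,
      (Fin.cons 0 (Pi.single ⟨0, by omega⟩ 1) : Fin (n + 1) → F) ᵥ*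
        ((c⁻¹ : G) : Matrix (Fin (n + 1)) (Fin (n + 1)) F)),
      mulVec_ne_zero c (by simp), vecMul_ne_zero c⁻¹ (fun h => ?_), ?_⟩, Subtype.ext hc⟩
    · have := congrFun h (Fin.succ ⟨0, by omega⟩)
      rw [Fin.cons_succ, Pi.single_eq_same, Pi.zero_apply] at this
      exact one_ne_zero this
    · show _ ⬝ᵥ _ = 0
      rw [dotProduct_mulVec, vecMul_vecMul, ← Matrix.SpecialLinearGroup.coe_mul, inv_mul_cancel,
        Matrix.SpecialLinearGroup.coe_one, vecMul_one, qf_dot]
  have hfib : ∀ y, Nat.card {p // π p = y} = Fintype.card F - 1 := by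
    intro y
    obtain ⟨⟨⟨u, φ⟩, hu, hφ, hd⟩, rfl⟩ := hsurj y
    rw [← Fintype.card_units, ← Nat.card_eq_fintype_card]
    refine (Nat.card_congr (Equiv.ofBijective
      (fun c : Fˣ => (⟨⟨((c : F) • u, ((c⁻¹ : Fˣ) : F) • φ), smul_ne_zero c.ne_zero hu,
        smul_ne_zero c⁻¹.ne_zero hφ, by
          show _ ⬝ᵥ _ = 0
          rw [smul_dotProduct, dotProduct_smul, hd, smul_zero, smul_zero]⟩, by
        refine Subtype.ext (Subtype.ext ?_)
        show (1 : Matrix (Fin (n + 1)) (Fin (n + 1)) F) + _ = 1 + _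
        congr 1
        ext i j
        simp only [vecMulVec_apply, Pi.smul_apply, smul_eq_mul]
        rw [mul_mul_mul_comm, ← Units.val_mul, mul_inv_cancel, Units.val_one, one_mul]⟩ : {p // π p = π ⟨(u, φ), hu, hφ, hd⟩})) ⟨?_, ?_⟩)).symm
    · intro c c' h
      have h1 : (c : F) • u = (c' : F) • u := congrArg (fun z => z.1.1.1) h
      exact Units.ext (smul_left_injective F hu h1)
    · rintro ⟨⟨⟨u', φ'⟩, hu', hφ', hd'⟩, he⟩
      have hm : ∀ i j, u' i * φ' j = u i * φ j := fun i j => by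
        have h0 := congrArg (fun z : {x : G // IsConj (qf (Pi.single ⟨0, by omega⟩ 1)) x} =>
          ((z.1 : G) : Matrix (Fin (n + 1)) (Fin (n + 1)) F)) he
        simp only [π, coe_tv, add_right_inj] at h0
        simpa [vecMulVec_apply] using congrFun (congrFun h0 i) j
      obtain ⟨i, hi⟩ := Function.ne_iff.mp hu
      obtain ⟨j, hj⟩ := Function.ne_iff.mp hφ
      have hij := hm i j
      have hui : u' i ≠ 0 := fun e => by
        rw [e, zero_mul] at hij; exact mul_ne_zero hi hj hij.symm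
      have hc : u' i / u i ≠ 0 := div_ne_zero hui hi
      refine ⟨Units.mk0 _ hc, Subtype.ext (Subtype.ext (Prod.ext (funext fun k => ?_) (funext fun k => ?_)))⟩
      · simp only [Units.val_mk0, Pi.smul_apply, smul_eq_mul]
        have h2 := hm k j
        have h4 : φ' j ≠ 0 := fun e => by rw [e, mul_zero] at hij; exact mul_ne_zero hi hj hij.symm
        apply mul_right_cancel₀ h4
        rw [h2, div_mul_eq_mul_div, div_mul_eq_mul_div, div_eq_iff hi]
        linear_combination u k * hij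
      · simp only [Units.val_inv_eq_inv_val, Units.val_mk0, Pi.smul_apply, smul_eq_mul, inv_div]
        rw [div_mul_eq_mul_div, div_eq_iff hui]
        linear_combination -hm i k
  rw [Nat.card_congr (Equiv.sigmaFiberEquiv π).symm, Nat.card_sigma, Finset.sum_congr rfl fun y _ => hfib y,
    Finset.sum_const, Finset.card_univ, smul_eq_mul, mul_comm]
  congr 1
  rw [Nat.card_eq_fintype_card]

end Cfsg.Lib.SLMinDeg
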