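import Mathlib
import Cfsg.Agent.Known.SUMinDegree.Chars

/-! Fixed spaces of abelian subgroups whose non-trivial elements are conjugate. -/

set_option autoImplicit false
set_option linter.unusedSectionVars false

namespace Cfsg.Lib.SLMinDeg

open Cfsg.Lib.RepEigen

variable {G M : Type*} [Group G] [AddCommGroup M] [Module ℂ M] [FiniteDimensional ℂ M]
  (ρ : G →* Module.End ℂ M) {A : Type*} [AddCommGroup A] [Fintype A] {f : A → G}
  (hf : ∀ a b, f (a + b) = f a * f b)

include hf

theorem hom_zero : f 0 = 1 := by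
  have := hf 0 0
  rw [add_zero] at this
  exact left_eq_mul.mp this

theorem sum_finrank_eig : ∑ χ : AddChar A ℂ, Module.finrank ℂ (eig ρ f χ) = Module.finrank ℂ M := by
  classical
  refine le_antisymm ?_ ?_
  · have := sum_finrank_eig_le ρ hf ⊤
    rw [finrank_top] at this
    refine le_trans (le_of_eq (Finset.sum_congr rfl fun χ _ => ?_)) this
    rw [top_inf_eq]
  · let T : (Π χ : AddChar A ℂ, eig ρ f χ) →ₗ[ℂ] M :=
      ∑ χ, (eig ρ f χ).subtype.comp (LinearMap.proj χ)
    have hT : Function.Surjective T := fun x =>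
      ⟨fun χ => ⟨proj ρ f χ x, proj_mem_eig ρ hf χ x⟩, by
        simpa [T] using sum_proj_apply ρ (hom_zero hf) x⟩
    rw [← Module.finrank_pi_fintype ℂ]
    exact LinearMap.finrank_le_finrank_of_surjective hT

theorem card_mul_finrank_eig_one :
    (Fintype.card A : ℂ) * (Module.finrank ℂ (eig ρ f 1) : ℂ) =
      ∑ a, LinearMap.trace ℂ M (ρ (f a)) := by
  classical
  have h : LinearMap.IsProj (eig ρ f 1) (proj ρ f 1) :=
    ⟨proj_mem_eig ρ hf 1, fun x hx => by rw [proj_apply_eig ρ hf hx, if_pos rfl]⟩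
  rw [← h.trace, proj, map_smul, map_sum, smul_eq_mul, ← mul_assoc,
    mul_inv_cancel₀ (Nat.cast_ne_zero.mpr Fintype.card_ne_zero), one_mul]
  simp

/-- If all non-trivial elements have the same trace `τ`. -/
theorem finrank_eig_one_of_trace {τ : ℂ} (hτ : ∀ a, a ≠ 0 → LinearMap.trace ℂ M (ρ (f a)) = τ) :
    (Fintype.card A : ℂ) * (Module.finrank ℂ (eig ρ f 1) : ℂ) =
      (Module.finrank ℂ M : ℂ) + ((Fintype.card A : ℂ) - 1) * τ := by
  classical
  rw [card_mul_finrank_eig_one ρ hf, ← Finset.add_sum_erase _ _ (Finset.mem_univ (0 : A)),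
    hom_zero hf, map_one, LinearMap.trace_one,
    Finset.sum_congr rfl (fun a ha => hτ a (Finset.ne_of_mem_erase ha)), Finset.sum_const,
    Finset.card_erase_of_mem (Finset.mem_univ _), Finset.card_univ, nsmul_eq_mul,
    Nat.cast_sub Fintype.card_pos, Nat.cast_one]

omit hf

/-- An element normalising `f` moves one eigenspace into another. -/
theorem map_mem_eig {g : G} (π : A → A) (hπ : Function.Surjective π)
    (hg : ∀ a, g * f a * g⁻¹ = f (π a)) {χ χ' : AddChar A ℂ} (hχ : ∀ a, χ' (π a) = χ a) {x : M}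
    (hx : x ∈ eig ρ f χ) : ρ g x ∈ eig ρ f χ' := by
  rw [mem_eig] at hx ⊢
  intro b
  obtain ⟨a, rfl⟩ := hπ b
  rw [hχ, ← hg, ← Module.End.mul_apply, ← map_mul, inv_mul_cancel_right, map_mul,
    Module.End.mul_apply, hx, map_smul]

theorem apply_injective (g : G) : Function.Injective (ρ g) := fun x y h => by
  have := congrArg (ρ g⁻¹) h
  rwa [← Module.End.mul_apply, ← Module.End.mul_apply, ← map_mul, inv_mul_cancel, map_one,
    Module.End.one_apply, Module.End.one_apply] at this

theorem finrank_le_of_map_mem {g : G} {X Y : Submodule ℂ M} (h : ∀ x ∈ X, ρ g x ∈ Y) :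
    Module.finrank ℂ X ≤ Module.finrank ℂ Y :=
  LinearMap.finrank_le_finrank_of_injective (f := (ρ g).restrict h)
    fun x y hxy => Subtype.ext (apply_injective ρ g (congrArg Subtype.val hxy))

theorem trace_eq_of_isConj {a b : G} (h : IsConj a b) :
    LinearMap.trace ℂ M (ρ a) = LinearMap.trace ℂ M (ρ b) := by
  obtain ⟨c, hc⟩ := isConj_iff.mp h
  rw [← hc, map_mul ρ, map_mul ρ, LinearMap.trace_mul_comm, ← mul_assoc, ← map_mul ρ, inv_mul_cancel,
    map_one ρ, one_mul]

end Cfsg.Lib.SLMinDeg
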