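import Cfsg.Agent.Known.SLMinDegree.Line
import Cfsg.Agent.Chars.Basic

/-! Subrepresentations without fixed vectors, and the fixed part of the root-fixed space. -/

set_option autoImplicit false
set_option linter.unusedSectionVars false

open scoped commutatorElement

namespace Cfsg.Lib.SLMinDeg

universe u v

/-- Irreducibility through invariant subspaces. -/
def IsIrr {H : Type u} [Group H] {M : Type v} [AddCommGroup M] [Module ℂ M]
    (ρ : H →* Module.End ℂ M) : Prop :=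
  ∀ U : Submodule ℂ M, (∀ g, ∀ x ∈ U, ρ g x ∈ U) → U = ⊥ ∨ U = ⊤

/-- Every non-linear irreducible representation has a degree with the property `P`. -/
def DimProp (H : Type u) [Group H] (P : ℕ → Prop) : Prop :=
  ∀ (M : Type v) [AddCommGroup M] [Module ℂ M] [FiniteDimensional ℂ M] (ρ : H →* Module.End ℂ M),
    IsIrr ρ → 2 ≤ Module.finrank ℂ M → P (Module.finrank ℂ M)

theorem DimProp.mono {H : Type u} [Group H] {P Q : ℕ → Prop} (h : DimProp.{u, v} H P)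
    (hPQ : ∀ d, P d → Q d) : DimProp.{u, v} H Q := fun M _ _ _ ρ hi hd => hPQ _ (h M ρ hi hd)

variable {H : Type u} [Group H] {M : Type v} [AddCommGroup M] [Module ℂ M] [FiniteDimensional ℂ M]
  (ρ : H →* Module.End ℂ M)

/-- The restriction to an invariant subspace. -/
def subRep (Y : Submodule ℂ M) (hY : ∀ g, ∀ x ∈ Y, ρ g x ∈ Y) : H →* Module.End ℂ Y where
  toFun g := (ρ g).restrict (hY g)
  map_one' := by ext x; simp
  map_mul' a b := by ext x; simp

@[simp] theorem subRep_apply (Y : Submodule ℂ M) (hY : ∀ g, ∀ x ∈ Y, ρ g x ∈ Y) (g : H) (x : Y) :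
    (subRep ρ Y hY g x : M) = ρ g x := rfl

theorem exists_minimal {X : Submodule ℂ M} (hX : ∀ g, ∀ x ∈ X, ρ g x ∈ X) (hne : X ≠ ⊥) :
    ∃ (Y : Submodule ℂ M) (hY : ∀ g, ∀ x ∈ Y, ρ g x ∈ Y), Y ≤ X ∧ Y ≠ ⊥ ∧ IsIrr (subRep ρ Y hY) := by
  classical
  have hex : ∃ k, ∃ Y : Submodule ℂ M, (∀ g, ∀ x ∈ Y, ρ g x ∈ Y) ∧ Y ≤ X ∧ Y ≠ ⊥ ∧
      Module.finrank ℂ Y = k := ⟨_, X, hX, le_rfl, hne, rfl⟩
  obtain ⟨Y, hY, hYX, hY0, hk⟩ := Nat.find_spec hex
  refine ⟨Y, hY, hYX, hY0, fun U hU => ?_⟩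
  by_cases h0 : U = ⊥
  · exact Or.inl h0
  refine Or.inr (Submodule.eq_top_of_finrank_eq (le_antisymm (Submodule.finrank_le U) ?_))
  rw [hk, (Submodule.equivMapOfInjective Y.subtype Y.injective_subtype U).finrank_eq]
  refine Nat.find_min' hex ⟨U.map Y.subtype, ?_, (Submodule.map_subtype_le Y U).trans hYX, ?_, rfl⟩
  · rintro g x ⟨y, hy, rfl⟩
    exact ⟨subRep ρ Y hY g y, hU g y hy, rfl⟩
  · intro h
    refine h0 ((Submodule.eq_bot_iff U).mpr fun y hy => Subtype.ext ?_)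
    exact (Submodule.mem_bot ℂ).mp (h ▸ Submodule.mem_map_of_mem (f := Y.subtype) hy)

variable (hperf : commutator H = ⊤)

include hperf

theorem two_le_of_nofix {Y : Submodule ℂ M} (hY : ∀ g, ∀ x ∈ Y, ρ g x ∈ Y) (hne : Y ≠ ⊥)
    (hnf : ∀ x ∈ Y, (∀ g, ρ g x = x) → x = 0) : 2 ≤ Module.finrank ℂ Y := by
  by_contra hlt
  have h1 : Module.finrank ℂ Y = 1 := by
    have : Module.finrank ℂ Y ≠ 0 := fun h => hne (Submodule.finrank_eq_zero.mp h)
    omega
  have hall : fixSub ρ (Y : Set M) = ⊤ := by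
    rw [eq_top_iff, ← hperf, commutator_def, Subgroup.commutator_le]
    intro g _ h _ x hx
    exact comm_fix ρ h1 (hY g) (hY h) hx
  refine hne ((Submodule.eq_bot_iff Y).mpr fun x hx => hnf x hx fun g => ?_)
  have hg : g ∈ fixSub ρ (Y : Set M) := hall ▸ Subgroup.mem_top g
  exact hg x hx

/-- An invariant subspace without fixed vectors is irreducible or has dimension at least twice the bound. -/
theorem nofix_dim [Finite H] {P : ℕ → Prop} {L : ℕ} (hP : DimProp.{u, v} H P) (hL : ∀ d, P d → L ≤ d)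
    {X : Submodule ℂ M} (hX : ∀ g, ∀ x ∈ X, ρ g x ∈ X) (hne : X ≠ ⊥)
    (hnf : ∀ x ∈ X, (∀ g, ρ g x = x) → x = 0) :
    P (Module.finrank ℂ X) ∨ 2 * L ≤ Module.finrank ℂ X := by
  obtain ⟨Y, hY, hYX, hY0, hirr⟩ := exists_minimal ρ hX hne
  have hYP := hP Y (subRep ρ Y hY) hirr (two_le_of_nofix ρ hperf hY hY0 fun x hx => hnf x (hYX hx))
  by_cases hYeq : Y = X
  · exact Or.inl (hYeq ▸ hYP)
  obtain ⟨T, hT⟩ := Cfsg.Lib.Chars.exists_isCompl_subrep (ρ : Representation ℂ H M)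
    { toSubmodule := Y, apply_mem_toSubmodule := fun g v hv => hY g v hv }
  have hZ : ∀ g, ∀ x ∈ X ⊓ T.toSubmodule, ρ g x ∈ X ⊓ T.toSubmodule := fun g x hx =>
    ⟨hX g x hx.1, T.apply_mem_toSubmodule g hx.2⟩
  have hsup : Y ⊔ X ⊓ T.toSubmodule = X := by
    rw [inf_comm, ← sup_inf_assoc_of_le _ hYX, hT.sup_eq_top, top_inf_eq]
  have hZ0 : X ⊓ T.toSubmodule ≠ ⊥ := fun h => hYeq (by rw [h, sup_bot_eq] at hsup; exact hsup)
  obtain ⟨Y', hY', hY'X, hY'0, hirr'⟩ := exists_minimal ρ hZ hZ0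
  have hY'P := hP Y' (subRep ρ Y' hY') hirr'
    (two_le_of_nofix ρ hperf hY' hY'0 fun x hx => hnf x (hY'X hx).1)
  right
  have hdis : Y ⊓ Y' = ⊥ := le_bot_iff.mp (hT.inf_eq_bot.le.trans' (inf_le_inf_left Y (hY'X.trans inf_le_right)))
  have h1 := Submodule.finrank_sup_add_finrank_inf_eq Y Y'
  rw [hdis, finrank_bot, add_zero] at h1
  have h2 := Submodule.finrank_mono (sup_le hYX (hY'X.trans inf_le_left))
  have := hL _ hYP
  have := hL _ hY'P
  omega

end Cfsg.Lib.SLMinDeg
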