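import Mathlib
import Cfsg.Agent.Classical.SL

/-! Transvections of special linear groups in coordinates, for the bound on character degrees. -/

set_option autoImplicit false
set_option linter.unusedSectionVars false

open Matrix
open scoped commutatorElement

namespace Cfsg.Lib.SLMinDeg

variable {ι : Type*} [Fintype ι] [DecidableEq ι] {F : Type*} [Field F]

local notation "SLi" => Matrix.SpecialLinearGroup ι F

theorem sl_ext {κ : Type*} [Fintype κ] [DecidableEq κ] {g h : Matrix.SpecialLinearGroup κ F}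
    (H : (g : Matrix κ κ F) = (h : Matrix κ κ F)) : g = h := Subtype.ext H

/-- The transvection `1 + u ⊗ φ`. -/
def tv (u φ : ι → F) (h : φ ⬝ᵥ u = 0) : SLi :=
  ⟨1 + vecMulVec u φ, by
    rw [vecMulVec_eq Unit, det_one_add_replicateCol_mul_replicateRow, h, add_zero]⟩

theorem coe_tv (u φ : ι → F) (h : φ ⬝ᵥ u = 0) :
    ((tv u φ h : SLi) : Matrix ι ι F) = 1 + vecMulVec u φ := rfl

theorem tv_congr {u u' φ φ' : ι → F} {h : φ ⬝ᵥ u = 0} {h' : φ' ⬝ᵥ u' = 0} (hu : u = u') (hφ : φ = φ') :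
    (tv u φ h : SLi) = tv u' φ' h' := by subst hu hφ; rfl

theorem tv_add_right {u φ ψ : ι → F} (h : φ ⬝ᵥ u = 0) (h' : ψ ⬝ᵥ u = 0) :
    (tv u (φ + ψ) (by rw [add_dotProduct, h, h', add_zero]) : SLi) = tv u φ h * tv u ψ h' := by
  apply sl_ext
  rw [Matrix.SpecialLinearGroup.coe_mul, coe_tv, coe_tv, coe_tv, mul_add, add_mul, add_mul, one_mul, mul_one,
    vecMulVec_mul_vecMulVec, h, vecMulVec_add]
  simp [add_assoc, add_comm, add_left_comm]

theorem tv_add_left {u v φ : ι → F} (h : φ ⬝ᵥ u = 0) (h' : φ ⬝ᵥ v = 0) :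
    (tv (u + v) φ (by rw [dotProduct_add, h, h', add_zero]) : SLi) = tv u φ h * tv v φ h' := by
  apply sl_ext
  rw [Matrix.SpecialLinearGroup.coe_mul, coe_tv, coe_tv, coe_tv, mul_add, add_mul, add_mul, one_mul, mul_one,
    vecMulVec_mul_vecMulVec, h', add_vecMulVec]
  simp [add_assoc, add_comm, add_left_comm]

theorem tv_conj {u φ : ι → F} (g : SLi) (h : φ ⬝ᵥ u = 0) :
    g * tv u φ h * g⁻¹ = tv ((g : Matrix ι ι F) *ᵥ u) (φ ᵥ* ((g⁻¹ : SLi) : Matrix ι ι F))
      (by rw [← dotProduct_mulVec, mulVec_mulVec, ← Matrix.SpecialLinearGroup.coe_mul, inv_mul_cancel,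
            Matrix.SpecialLinearGroup.coe_one, one_mulVec, h]) := by
  apply sl_ext
  rw [Matrix.SpecialLinearGroup.coe_mul, Matrix.SpecialLinearGroup.coe_mul, coe_tv, coe_tv, mul_add, add_mul, mul_one,
    mul_vecMulVec, vecMulVec_mul, ← Matrix.SpecialLinearGroup.coe_mul, mul_inv_cancel, Matrix.SpecialLinearGroup.coe_one]

/-- Elementary transvections. -/
theorem tv_single {i j : ι} (hij : i ≠ j) (c : F)
    (h : (Pi.single j c : ι → F) ⬝ᵥ (Pi.single i (1 : F)) = 0) :
    (tv (Pi.single i (1 : F)) (Pi.single j c) h : SLi) = Matrix.SpecialLinearGroup.transvection hij c := by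
  apply sl_ext
  rw [coe_tv, Matrix.SpecialLinearGroup.transvection_coe]
  congr 1
  ext a b
  simp only [vecMulVec_apply, Matrix.single_apply, Pi.single_apply]
  by_cases h1 : a = i <;> by_cases h2 : b = j <;>
    simp_all [eq_comm]

theorem single_dot_single {i j : ι} (hij : i ≠ j) (a b : F) :
    (Pi.single j a : ι → F) ⬝ᵥ (Pi.single i b) = 0 := by
  rw [single_dotProduct, Pi.single_eq_of_ne hij.symm, mul_zero]

/-- Diagonal elements. -/
def dia (d : ι → F) (hd : ∏ i, d i = 1) : SLi := ⟨diagonal d, by rw [det_diagonal, hd]⟩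

theorem coe_dia (d : ι → F) (hd : ∏ i, d i = 1) : ((dia d hd : SLi) : Matrix ι ι F) = diagonal d := rfl

theorem dia_inv (d : ι → F) (hd : ∏ i, d i = 1) (hd' : ∏ i, (d i)⁻¹ = 1) :
    (dia d hd : SLi)⁻¹ = dia (fun i => (d i)⁻¹) hd' := by
  refine inv_eq_of_mul_eq_one_right (sl_ext ?_)
  rw [Matrix.SpecialLinearGroup.coe_mul, coe_dia, coe_dia, diagonal_mul_diagonal, Matrix.SpecialLinearGroup.coe_one,
    ← diagonal_one]
  congr 1
  funext i
  refine mul_inv_cancel₀ fun h => ?_
  rw [Finset.prod_eq_zero (Finset.mem_univ i) h] at hd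
  exact zero_ne_one hd

theorem dia_conj (d : ι → F) (hd : ∏ i, d i = 1) (u φ : ι → F) (h : φ ⬝ᵥ u = 0)
    (h' : (fun i => φ i * (d i)⁻¹) ⬝ᵥ (fun i => d i * u i) = 0) :
    dia d hd * tv u φ h * (dia d hd)⁻¹ = tv (fun i => d i * u i) (fun i => φ i * (d i)⁻¹) h' := by
  have hd' : ∏ i, (d i)⁻¹ = 1 := by rw [Finset.prod_inv_distrib, hd, inv_one]
  rw [tv_conj]
  refine tv_congr (funext fun i => ?_) (funext fun i => ?_)
  · rw [coe_dia, mulVec_diagonal]
  · rw [dia_inv d hd hd', coe_dia, vecMul_diagonal]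

/-! ### Transitivity -/

theorem mulVec_transvection {i j : ι} (hij : i ≠ j) (c : F) (v : ι → F) :
    (Matrix.SpecialLinearGroup.transvection hij c : Matrix ι ι F) *ᵥ v = v + Pi.single i (c * v j) := by
  rw [← tv_single hij c (single_dot_single hij c 1), coe_tv, add_mulVec, one_mulVec, vecMulVec_mulVec,
    single_dotProduct]
  congr 1
  funext k
  by_cases hk : k = i
  · subst hk; simp
  · simp [hk]

theorem vecMul_transvection {i j : ι} (hij : i ≠ j) (c : F) (v : ι → F) :
    v ᵥ* (Matrix.SpecialLinearGroup.transvection hij c : Matrix ι ι F) = v + Pi.single j (v i * c) := by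
  rw [← tv_single hij c (single_dot_single hij c 1), coe_tv, vecMul_add, vecMul_one, vecMul_vecMulVec,
    dotProduct_single, mul_one]
  congr 1
  funext k
  by_cases hk : k = j
  · subst hk; simp
  · simp [hk]

/-- `SL` is transitive on the non-zero row vectors. -/
theorem exists_vecMul_eq {v : ι → F} (hv : v ≠ 0) (i₀ : ι) (hne : ∃ k, k ≠ i₀) :
    ∃ g : SLi, v ᵥ* (g : Matrix ι ι F) = Pi.single i₀ 1 := by
  classical
  obtain ⟨k, hk⟩ := hne
  -- first arrange a non-zero entry at `k`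
  obtain ⟨g₁, hg₁⟩ : ∃ g : SLi, (v ᵥ* (g : Matrix ι ι F)) k ≠ 0 := by
    by_cases h : v k = 0
    · obtain ⟨j, hj⟩ := Function.ne_iff.mp hv
      have hjk : j ≠ k := fun e => hj (by subst e; exact h)
      refine ⟨Matrix.SpecialLinearGroup.transvection hjk 1, ?_⟩
      rw [vecMul_transvection, Pi.add_apply, h, Pi.single_eq_same, zero_add, mul_one]
      exact hj
    · exact ⟨1, by rw [Matrix.SpecialLinearGroup.coe_one, vecMul_one]; exact h⟩
  set w := v ᵥ* (g₁ : Matrix ι ι F) with hw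
  set w' := w + Pi.single i₀ (w k * ((1 - w i₀) * (w k)⁻¹)) with hw'
  have h1 : w' i₀ = 1 := by rw [hw', Pi.add_apply, Pi.single_eq_same]; field_simp; ring
  let φ : ι → F := Pi.single i₀ 1 - w'
  have hφ : φ ⬝ᵥ (Pi.single i₀ 1 : ι → F) = 0 := by
    rw [dotProduct_single, mul_one]; simp [φ, h1]
  refine ⟨g₁ * Matrix.SpecialLinearGroup.transvection hk ((1 - w i₀) * (w k)⁻¹) * tv _ φ hφ, ?_⟩
  rw [Matrix.SpecialLinearGroup.coe_mul, Matrix.SpecialLinearGroup.coe_mul, ← vecMul_vecMul, ← vecMul_vecMul, ← hw,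
    vecMul_transvection, ← hw', coe_tv, vecMul_add, vecMul_one, vecMul_vecMulVec, dotProduct_single, h1,
    mul_one, one_smul]
  simp [φ]

/-- `SL` is transitive on the non-zero column vectors. -/
theorem exists_mulVec_eq {v : ι → F} (hv : v ≠ 0) (i₀ : ι) (hne : ∃ k, k ≠ i₀) :
    ∃ g : SLi, (g : Matrix ι ι F) *ᵥ (Pi.single i₀ 1) = v := by
  obtain ⟨g, hg⟩ := exists_vecMul_eq hv i₀ hne
  refine ⟨(g.transpose)⁻¹, ?_⟩
  have h : (g.transpose : Matrix ι ι F) *ᵥ v = Pi.single i₀ 1 := by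
    rw [← hg]; exact mulVec_transpose _ _
  rw [← h, mulVec_mulVec, ← Matrix.SpecialLinearGroup.coe_mul, inv_mul_cancel, Matrix.SpecialLinearGroup.coe_one,
    one_mulVec]

/-! ### The block embedding -/

variable {n : ℕ}

/-- The matrix `1 ⊕ A`. -/
def blockMat (A : Matrix (Fin n) (Fin n) F) : Matrix (Fin (n + 1)) (Fin (n + 1)) F :=
  of fun i j => Fin.cases (Fin.cases 1 0 j) (fun i' => Fin.cases 0 (A i') j) i

@[simp] theorem blockMat_zero_zero (A : Matrix (Fin n) (Fin n) F) : blockMat A 0 0 = 1 := rfl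
@[simp] theorem blockMat_zero_succ (A : Matrix (Fin n) (Fin n) F) (j : Fin n) : blockMat A 0 j.succ = 0 := by
  simp [blockMat]
@[simp] theorem blockMat_succ_zero (A : Matrix (Fin n) (Fin n) F) (i : Fin n) : blockMat A i.succ 0 = 0 := by
  simp [blockMat]
@[simp] theorem blockMat_succ_succ (A : Matrix (Fin n) (Fin n) F) (i j : Fin n) :
    blockMat A i.succ j.succ = A i j := by simp [blockMat]

theorem det_blockMat (A : Matrix (Fin n) (Fin n) F) : (blockMat A).det = A.det := by
  rw [det_succ_row_zero, Fin.sum_univ_succ, Finset.sum_eq_zero fun j _ => by simp]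
  have : (blockMat A).submatrix Fin.succ (Fin.succAbove 0) = A := by
    ext i j; simp
  rw [Fin.succAbove_zero] at this
  simp [this]

/-- The embedding `SL n → SL (n + 1)` fixing the first basis vector. -/
def emb : Matrix.SpecialLinearGroup (Fin n) F →* Matrix.SpecialLinearGroup (Fin (n + 1)) F where
  toFun A := ⟨blockMat A.1, by rw [det_blockMat, A.2]⟩
  map_one' := by
    apply sl_ext
    ext i j
    change blockMat (1 : Matrix (Fin n) (Fin n) F) i j = (1 : Matrix _ _ F) i j
    cases i using Fin.cases <;> cases j using Fin.cases <;> simp [one_apply, (Fin.succ_ne_zero _).symm]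
  map_mul' A B := by
    apply sl_ext
    ext i j
    change blockMat (A.1 * B.1) i j = (blockMat A.1 * blockMat B.1) i j
    cases i using Fin.cases <;> cases j using Fin.cases <;> simp [mul_apply, Fin.sum_univ_succ]

theorem coe_emb (A : Matrix.SpecialLinearGroup (Fin n) F) :
    ((emb A : Matrix.SpecialLinearGroup (Fin (n + 1)) F) : Matrix _ _ F) = blockMat A.1 := rfl

theorem emb_mulVec (A : Matrix.SpecialLinearGroup (Fin n) F) (a : F) (v : Fin n → F) :
    (emb A : Matrix (Fin (n + 1)) (Fin (n + 1)) F) *ᵥ Fin.cons a v =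
      Fin.cons a ((A : Matrix _ _ F) *ᵥ v) := by
  ext i
  cases i using Fin.cases <;> simp [mulVec, dotProduct, Fin.sum_univ_succ, coe_emb]

theorem vecMul_emb (A : Matrix.SpecialLinearGroup (Fin n) F) (a : F) (v : Fin n → F) :
    Fin.cons a v ᵥ* (emb A : Matrix (Fin (n + 1)) (Fin (n + 1)) F) =
      Fin.cons a (v ᵥ* (A : Matrix _ _ F)) := by
  ext i
  cases i using Fin.cases <;> simp [vecMul, dotProduct, Fin.sum_univ_succ, coe_emb]

theorem cons_dot (a b : F) (v w : Fin n → F) :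
    (Fin.cons a v : Fin (n + 1) → F) ⬝ᵥ Fin.cons b w = a * b + v ⬝ᵥ w := by
  simp [dotProduct, Fin.sum_univ_succ]

theorem emb_tv {u φ : Fin n → F} (h : φ ⬝ᵥ u = 0) :
    emb (tv u φ h) = tv (Fin.cons 0 u) (Fin.cons 0 φ) (by rw [cons_dot, h]; simp) := by
  apply sl_ext
  ext i j
  rw [coe_emb, coe_tv, coe_tv]
  cases i using Fin.cases <;> cases j using Fin.cases <;>
    simp [vecMulVec_apply, one_apply, (Fin.succ_ne_zero _).symm]

theorem emb_transvection {i j : Fin n} (hij : i ≠ j) (c : F) :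
    emb (Matrix.SpecialLinearGroup.transvection hij c) =
      Matrix.SpecialLinearGroup.transvection (Fin.succ_injective n |>.ne hij) c := by
  apply sl_ext
  ext a b
  rw [coe_emb, Matrix.SpecialLinearGroup.transvection_coe, Matrix.SpecialLinearGroup.transvection_coe]
  cases a using Fin.cases <;> cases b using Fin.cases <;>
    simp [one_apply, single_apply, (Fin.succ_ne_zero _).symm]

theorem single_zero_cons : (Pi.single 0 (1 : F) : Fin (n + 1) → F) = Fin.cons 1 0 := by
  ext i; cases i using Fin.cases <;> simp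

theorem emb_fix_col (A : Matrix.SpecialLinearGroup (Fin n) F) :
    (emb A : Matrix (Fin (n + 1)) (Fin (n + 1)) F) *ᵥ Pi.single 0 1 = Pi.single 0 1 := by
  rw [single_zero_cons, emb_mulVec, mulVec_zero]

end Cfsg.Lib.SLMinDeg
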