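import Cfsg.Agent.Known.SLMinDegree.Bound

/-! The representation on functions of sum zero on the projective space. -/

set_option autoImplicit false
set_option linter.unusedSectionVars false

open Matrix
open scoped LinearAlgebra.Projectivization

namespace Cfsg.Lib.SLMinDeg

universe u

variable {F : Type u} [Field F] [Fintype F] {n : ℕ}

/-- The action of `SL` on points of the projective space. -/
noncomputable def pact (g : Matrix.SpecialLinearGroup (Fin n) F) (x : ℙ F (Fin n → F)) : ℙ F (Fin n → F) :=
  Projectivization.map (Matrix.mulVecLin (g : Matrix (Fin n) (Fin n) F))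
    (fun v w h => by
      have := congrArg (fun z => ((g⁻¹ : Matrix.SpecialLinearGroup (Fin n) F) : Matrix (Fin n) (Fin n) F) *ᵥ z) h
      simpa only [Matrix.mulVecLin_apply, mulVec_mulVec, ← Matrix.SpecialLinearGroup.coe_mul, inv_mul_cancel,
        Matrix.SpecialLinearGroup.coe_one, one_mulVec] using this) x

theorem pact_mk (g : Matrix.SpecialLinearGroup (Fin n) F) (v : Fin n → F) (hv : v ≠ 0) :
    pact g (Projectivization.mk F v hv) =
      Projectivization.mk F ((g : Matrix (Fin n) (Fin n) F) *ᵥ v) (mulVec_ne_zero g hv) := rfl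

theorem pact_one (x : ℙ F (Fin n → F)) : pact 1 x = x := by
  induction x using Projectivization.ind with
  | _ v hv =>
    rw [pact_mk]
    simp

theorem pact_mul (g h : Matrix.SpecialLinearGroup (Fin n) F) (x : ℙ F (Fin n → F)) :
    pact (g * h) x = pact g (pact h x) := by
  induction x using Projectivization.ind with
  | _ v hv =>
    rw [pact_mk, pact_mk, pact_mk]
    simp [mulVec_mulVec]

theorem pact_transitive (hn : 2 ≤ n) (x y : ℙ F (Fin n → F)) : ∃ g, pact g x = y := by
  induction x using Projectivization.ind with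
  | _ v hv =>
  induction y using Projectivization.ind with
  | _ w hw =>
    have h1 : ∃ k : Fin n, k ≠ ⟨0, by omega⟩ := ⟨⟨1, by omega⟩, by simp⟩
    obtain ⟨A, hA⟩ := exists_mulVec_eq hv ⟨0, by omega⟩ h1
    obtain ⟨B, hB⟩ := exists_mulVec_eq hw ⟨0, by omega⟩ h1
    refine ⟨B * A⁻¹, ?_⟩
    rw [pact_mk]
    congr 1
    conv_lhs => rw [← hA]
    rw [mulVec_mulVec, ← Matrix.SpecialLinearGroup.coe_mul, inv_mul_cancel_right, hB]

/-- The permutation representation on functions on the points. -/
noncomputable def funRep : Matrix.SpecialLinearGroup (Fin n) F →* Module.End ℂ (ℙ F (Fin n → F) → ℂ) where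
  toFun g := LinearMap.funLeft ℂ ℂ (pact g⁻¹)
  map_one' := by
    refine LinearMap.ext fun f => funext fun x => ?_
    simp [LinearMap.funLeft_apply, pact_one]
  map_mul' g h := by
    refine LinearMap.ext fun f => funext fun x => ?_
    simp [LinearMap.funLeft_apply, _root_.mul_inv_rev, pact_mul]

theorem funRep_apply (g : Matrix.SpecialLinearGroup (Fin n) F) (f : ℙ F (Fin n → F) → ℂ) (x : ℙ F (Fin n → F)) :
    funRep g f x = f (pact g⁻¹ x) := rfl

theorem exists_irr (n : ℕ) (hn : 2 ≤ n)
    (hex : ¬ (n = 2 ∧ (Fintype.card F = 2 ∨ Fintype.card F = 4)) ∧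
      ¬ (n = 3 ∧ (Fintype.card F = 2 ∨ Fintype.card F = 3))) :
    ∃ ρ : Representation ℂ (Matrix.SpecialLinearGroup (Fin (n + 1)) F)
      (Fin (S (Fintype.card F) (n + 1) - 1) → ℂ), ρ.IsIrreducible := by
  classical
  have : Fintype (ℙ F (Fin (n + 1) → F)) := Fintype.ofFinite _
  have hcard : Fintype.card (ℙ F (Fin (n + 1) → F)) = S (Fintype.card F) (n + 1) := by
    rw [← Nat.card_eq_fintype_card, Projectivization.card_of_finrank F _ (Module.finrank_fin_fun F),
      Nat.card_eq_fintype_card, S]
  have hS : 1 + Fintype.card F ≤ S (Fintype.card F) (n + 1) := by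
    have : S (Fintype.card F) 2 ≤ S (Fintype.card F) (n + 1) :=
      Finset.sum_le_sum_of_subset (Finset.range_subset_range.mpr (by omega))
    have e : S (Fintype.card F) 2 = 1 + Fintype.card F := by simp [S, Finset.sum_range_succ]
    omega
  have hq := Fintype.one_lt_card (α := F)
  let sumL : (ℙ F (Fin (n + 1) → F) → ℂ) →ₗ[ℂ] ℂ := ∑ x, LinearMap.proj x
  have hsum : ∀ f, sumL f = ∑ x, f x := fun f => by simp [sumL]
  set V := LinearMap.ker sumL with hV
  have hinv : ∀ g, ∀ f ∈ V, funRep g f ∈ V := fun g f hf => by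
    rw [hV, LinearMap.mem_ker, hsum] at hf ⊢
    rw [← hf]
    exact Fintype.sum_equiv ⟨pact g⁻¹, pact g, fun x => by rw [← pact_mul, mul_inv_cancel, pact_one],
      fun x => by rw [← pact_mul, inv_mul_cancel, pact_one]⟩ _ _ fun x => rfl
  have hdim : Module.finrank ℂ V = S (Fintype.card F) (n + 1) - 1 := by
    have h1 := LinearMap.finrank_range_add_finrank_ker sumL
    have h2 : LinearMap.range sumL = ⊤ := LinearMap.range_eq_top.mpr fun c => by
      obtain ⟨x₀⟩ : Nonempty (ℙ F (Fin (n + 1) → F)) := ⟨Projectivization.mk F (Pi.single 0 1) (by simp)⟩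
      exact ⟨Pi.single x₀ c, by rw [hsum]; simp⟩
    rw [h2, finrank_top, Module.finrank_self, Module.finrank_fintype_fun_eq_card, hcard, ← hV] at h1
    omega
  set σ := subRep funRep V hinv with hσ
  have hnf : ∀ f : V, (∀ g, σ g f = f) → f = 0 := fun f hf => by
    refine Subtype.ext (funext fun x => ?_)
    have hc : ∀ y, (f : ℙ F (Fin (n + 1) → F) → ℂ) y = (f : ℙ F (Fin (n + 1) → F) → ℂ) x := fun y => by
      obtain ⟨g, rfl⟩ := pact_transitive (by omega) x y
      have := congrFun (congrArg Subtype.val (hf g⁻¹)) x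
      rwa [hσ, subRep_apply, funRep_apply, inv_inv] at this
    have h : sumL (f : ℙ F (Fin (n + 1) → F) → ℂ) = 0 := LinearMap.mem_ker.mp f.2
    rw [hsum, Finset.sum_congr rfl (fun y _ => hc y), Finset.sum_const, Finset.card_univ,
      hcard, smul_eq_zero] at h
    exact h.resolve_left (by omega)
  have hperf := Cfsg.Lib.Classical.SL_commutator_eq_top (ι := Fin (n + 1)) (F := F) (by rw [Fintype.card_fin]; omega)
  have hbound := main_bound.{u, u} (F := F) n hn hex
  have hirr : Representation.IsIrreducible (σ : Representation ℂ _ V) := by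
    have : Nontrivial V := Module.nontrivial_of_finrank_pos (R := ℂ) (by omega : 0 < Module.finrank ℂ V)
    refine { exists_pair_ne := ⟨⊥, ⊤, fun h => bot_ne_top (congrArg Subrepresentation.toSubmodule h)⟩,
             eq_bot_or_eq_top := fun U => ?_ }
    by_cases hU : U.toSubmodule = ⊥
    · exact Or.inl (Subrepresentation.toSubmodule_injective hU)
    right
    obtain ⟨Y, hY, hYU, hY0, hYirr⟩ := exists_minimal σ (fun g x hx => U.apply_mem_toSubmodule g hx) hU
    have h2 := two_le_of_nofix σ hperf hY hY0 fun x _ => hnf x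
    have h3 : S (Fintype.card F) (n + 1) - 1 ≤ Module.finrank ℂ Y := hbound Y (subRep σ Y hY) hYirr h2
    have hYtop : Y = ⊤ := Submodule.eq_top_of_finrank_eq (le_antisymm (Submodule.finrank_le Y) (by omega))
    exact Subrepresentation.toSubmodule_injective (top_le_iff.mp (hYtop ▸ hYU))
  let e := (Module.finBasisOfFinrankEq ℂ V hdim).equivFun
  exact ⟨Cfsg.Lib.Chars.repConj (σ : Representation ℂ _ V) e,
    Cfsg.Lib.Chars.isIrreducible_of_equiv (Cfsg.Lib.Chars.repConjEquiv (σ : Representation ℂ _ V) e)⟩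

end Cfsg.Lib.SLMinDeg
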