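import Cfsg.Agent.Known.SLMinDegree.Moved
import Cfsg.Agent.Modular.Irred

/-! The vectors fixed by a vector stabiliser: there are at most `√(q - 1)` independent ones. -/

set_option autoImplicit false
set_option linter.unusedSectionVars false

open Matrix

namespace Cfsg.Lib.SLMinDeg

universe u v

variable {F : Type u} [Field F] [Fintype F] {n : ℕ} {M : Type v} [AddCommGroup M] [Module ℂ M]
  [FiniteDimensional ℂ M] (ρ : Matrix.SpecialLinearGroup (Fin (n + 1)) F →* Module.End ℂ M)

theorem fix_of_stab {x : M} (hx : x ∈ Kfix ρ) (g : Matrix.SpecialLinearGroup (Fin (n + 1)) F)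
    (hg : (g : Matrix (Fin (n + 1)) (Fin (n + 1)) F) *ᵥ Pi.single 0 1 = Pi.single 0 1) : ρ g x = x := by
  have hcol : ∀ i, (g : Matrix (Fin (n + 1)) (Fin (n + 1)) F) i 0 = (Pi.single 0 1 : Fin (n + 1) → F) i := by
    intro i
    have := congrFun hg i
    rwa [mulVec_single, MulOpposite.op_one, one_smul] at this
  have hdet : ((g : Matrix (Fin (n + 1)) (Fin (n + 1)) F).submatrix Fin.succ Fin.succ).det = 1 := by
    have h := g.2
    rw [det_succ_column_zero, Fin.sum_univ_succ, hcol 0, Finset.sum_eq_zero fun j _ => by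
      rw [hcol, Pi.single_eq_of_ne (Fin.succ_ne_zero j)]; ring] at h
    simpa [Fin.succAbove_zero] using h
  set A : Matrix.SpecialLinearGroup (Fin n) F := ⟨_, hdet⟩ with hA
  set φ : Fin n → F := fun j => (g : Matrix (Fin (n + 1)) (Fin (n + 1)) F) 0 j.succ with hφ
  have he : g = emb A * qf φ := by
    apply sl_ext
    rw [Matrix.SpecialLinearGroup.coe_mul, qf, coe_tv, mul_add, mul_one, mul_vecMulVec, emb_fix_col, coe_emb]
    ext i j
    cases i using Fin.cases <;> cases j using Fin.cases <;>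
      simp [hcol, hA, hφ, vecMulVec_apply]
  rw [he, map_mul, Module.End.mul_apply, (mem_Wsp ρ).mp ((mem_Kfix ρ).mp hx).1, ((mem_Kfix ρ).mp hx).2]

theorem finrank_Kfix_sq_le (hirr : IsIrr ρ) (hn : 2 ≤ n) (hd : 2 ≤ Module.finrank ℂ M) :
    Module.finrank ℂ (Kfix ρ) ^ 2 ≤ Fintype.card F - 1 := by
  classical
  set S : Finset (Matrix.SpecialLinearGroup (Fin (n + 1)) F) := Finset.univ.filter fun h =>
    (h : Matrix (Fin (n + 1)) (Fin (n + 1)) F) *ᵥ Pi.single 0 1 = Pi.single 0 1 with hS
  have hmemS : ∀ h, h ∈ S ↔ (h : Matrix (Fin (n + 1)) (Fin (n + 1)) F) *ᵥ Pi.single 0 1 = Pi.single 0 1 :=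
    fun h => by simp [hS]
  have hmulS : ∀ a b, a ∈ S → b ∈ S → a * b ∈ S := fun a b ha hb => by
    rw [hmemS] at ha hb ⊢
    rw [Matrix.SpecialLinearGroup.coe_mul, ← mulVec_mulVec, hb, ha]
  have hinvS : ∀ a, a ∈ S → a⁻¹ ∈ S := fun a ha => by
    rw [hmemS] at ha ⊢
    conv_lhs => arg 2; rw [← ha]
    rw [mulVec_mulVec, ← Matrix.SpecialLinearGroup.coe_mul, inv_mul_cancel,
      Matrix.SpecialLinearGroup.coe_one, one_mulVec]
  have hne : S.Nonempty := ⟨1, by rw [hmemS, Matrix.SpecialLinearGroup.coe_one, one_mulVec]⟩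
  set p : Module.End ℂ M := (S.card : ℂ)⁻¹ • ∑ h ∈ S, ρ h with hp
  have hpl : ∀ a ∈ S, ∀ x, ρ a (p x) = p x := fun a ha x => by
    simp only [hp, LinearMap.smul_apply, LinearMap.sum_apply, map_smul, map_sum]
    congr 1
    refine Finset.sum_nbij' (a * ·) (a⁻¹ * ·) (fun b hb => hmulS _ _ ha hb)
      (fun b hb => hmulS _ _ (hinvS a ha) hb) (fun b _ => inv_mul_cancel_left a b)
      (fun b _ => mul_inv_cancel_left a b) fun b _ => by rw [map_mul, Module.End.mul_apply]
  have hpr : ∀ a ∈ S, ∀ x, p (ρ a x) = p x := fun a ha x => by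
    simp only [hp, LinearMap.smul_apply, LinearMap.sum_apply]
    congr 1
    refine Finset.sum_nbij' (· * a) (· * a⁻¹) (fun b hb => hmulS _ _ hb ha)
      (fun b hb => hmulS _ _ hb (hinvS a ha)) (fun b _ => mul_inv_cancel_right b a)
      (fun b _ => inv_mul_cancel_right b a) fun b _ => by rw [map_mul, Module.End.mul_apply]
  have hpK : ∀ x, p x ∈ Kfix ρ := fun x => (mem_Kfix ρ).mpr
    ⟨(mem_Wsp ρ).mpr fun φ => hpl _ (by
      rw [hmemS, qf, coe_tv, add_mulVec, one_mulVec, vecMulVec_mulVec, qf_dot]; simp) x,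
     fun A => hpl _ (by rw [hmemS, emb_fix_col]) x⟩
  have hpid : ∀ x ∈ Kfix ρ, p x = x := fun x hx => by
    simp only [hp, LinearMap.smul_apply, LinearMap.sum_apply]
    rw [Finset.sum_congr rfl fun h hh => fix_of_stab ρ hx h ((hmemS h).mp hh), Finset.sum_const,
      ← Nat.cast_smul_eq_nsmul ℂ, smul_smul, inv_mul_cancel₀ (Nat.cast_ne_zero.mpr hne.card_pos.ne'),
      one_smul]
  let T : Matrix.SpecialLinearGroup (Fin (n + 1)) F → Module.End ℂ (Kfix ρ) := fun g =>
    (p.comp (ρ g)).restrict (p := Kfix ρ) (q := Kfix ρ) fun x _ => hpK _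
  have hT : ∀ g (x : Kfix ρ), (T g x : M) = p (ρ g x) := fun g x => rfl
  -- `T` only depends on the position of the image of the first basis vector
  let inv : Matrix.SpecialLinearGroup (Fin (n + 1)) F → F := fun g =>
    if Fin.tail ((g : Matrix (Fin (n + 1)) (Fin (n + 1)) F) *ᵥ Pi.single 0 1) = 0 then
      ((g : Matrix (Fin (n + 1)) (Fin (n + 1)) F) *ᵥ Pi.single 0 1) 0 else 0
  have hfac : ∀ g g', inv g = inv g' → T g = T g' := by
    intro g g' he
    set v := (g : Matrix (Fin (n + 1)) (Fin (n + 1)) F) *ᵥ Pi.single 0 1 with hv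
    set v' := (g' : Matrix (Fin (n + 1)) (Fin (n + 1)) F) *ᵥ Pi.single 0 1 with hv'
    have hv0 : v ≠ 0 := mulVec_ne_zero g (by simp)
    have hv'0 : v' ≠ 0 := mulVec_ne_zero g' (by simp)
    have hz : ∀ w : Fin (n + 1) → F, w ≠ 0 → Fin.tail w = 0 → w 0 ≠ 0 := fun w hw ht h0 => hw (by
      rw [← Fin.cons_self_tail w, h0, ht]; ext i; cases i using Fin.cases <;> simp)
    obtain ⟨h1, hh1, heq⟩ : ∃ h1 ∈ S, (h1 : Matrix (Fin (n + 1)) (Fin (n + 1)) F) *ᵥ v = v' := by
      simp only [inv, ← hv, ← hv'] at he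
      by_cases ht : Fin.tail v = 0
      · rw [if_pos ht] at he
        have ht' : Fin.tail v' = 0 := by
          by_contra ht'; rw [if_neg ht'] at he; exact hz v hv0 ht he
        rw [if_pos ht'] at he
        refine ⟨1, by rw [hmemS, Matrix.SpecialLinearGroup.coe_one, one_mulVec], ?_⟩
        rw [Matrix.SpecialLinearGroup.coe_one, one_mulVec, ← Fin.cons_self_tail v, ← Fin.cons_self_tail v',
          ht, ht', he]
      · have ht' : Fin.tail v' ≠ 0 := fun ht' => by
          rw [if_neg ht, if_pos ht'] at he; exact hz v' hv'0 ht' he.symm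
        have h1 : ∃ k : Fin n, k ≠ ⟨0, by omega⟩ := ⟨⟨1, by omega⟩, by simp⟩
        obtain ⟨A, hA⟩ := exists_mulVec_eq ht ⟨0, by omega⟩ h1
        obtain ⟨B, hB⟩ := exists_mulVec_eq ht' ⟨0, by omega⟩ h1
        obtain ⟨j, hj⟩ := Function.ne_iff.mp ht'
        refine ⟨qf (Pi.single j ((v' 0 - v 0) * (Fin.tail v' j)⁻¹)) * emb (B * A⁻¹),
          hmulS _ _ ((hmemS _).mpr ?_) ((hmemS _).mpr (emb_fix_col _)), ?_⟩
        · rw [qf, coe_tv, add_mulVec, one_mulVec, vecMulVec_mulVec, qf_dot]; simp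
        · rw [Matrix.SpecialLinearGroup.coe_mul, ← mulVec_mulVec]
          conv_lhs => arg 2; arg 2; rw [← Fin.cons_self_tail v]
          have hBA : ((B * A⁻¹ : Matrix.SpecialLinearGroup (Fin n) F) : Matrix (Fin n) (Fin n) F) *ᵥ Fin.tail v =
              Fin.tail v' := by
            have h' : ((A⁻¹ : Matrix.SpecialLinearGroup (Fin n) F) : Matrix (Fin n) (Fin n) F) *ᵥ
                ((A : Matrix (Fin n) (Fin n) F) *ᵥ Pi.single ⟨0, by omega⟩ 1) = Pi.single ⟨0, by omega⟩ 1 := by
              rw [mulVec_mulVec, ← Matrix.SpecialLinearGroup.coe_mul, inv_mul_cancel,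
                Matrix.SpecialLinearGroup.coe_one, one_mulVec]
            rw [Matrix.SpecialLinearGroup.coe_mul, ← mulVec_mulVec, ← hA, h', hB]
          rw [emb_mulVec, hBA, qf, coe_tv, add_mulVec, one_mulVec, vecMulVec_mulVec, cons_dot,
            single_dotProduct]
          ext i
          cases i using Fin.cases with
          | zero =>
            have hj' : v' j.succ ≠ 0 := hj
            simp [Fin.tail, mul_assoc, inv_mul_cancel₀ hj']
          | succ i => simp [Fin.tail]
    have hh2 : g⁻¹ * h1⁻¹ * g' ∈ S := by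
      rw [hmemS, Matrix.SpecialLinearGroup.coe_mul, Matrix.SpecialLinearGroup.coe_mul, ← mulVec_mulVec,
        ← mulVec_mulVec, ← hv', ← heq, mulVec_mulVec _ _ (h1 : Matrix (Fin (n + 1)) (Fin (n + 1)) F),
        ← Matrix.SpecialLinearGroup.coe_mul, inv_mul_cancel, Matrix.SpecialLinearGroup.coe_one, one_mulVec,
        hv, mulVec_mulVec, ← Matrix.SpecialLinearGroup.coe_mul, inv_mul_cancel,
        Matrix.SpecialLinearGroup.coe_one, one_mulVec]
    refine LinearMap.ext fun x => Subtype.ext ?_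
    rw [hT, hT, show g' = h1 * g * (g⁻¹ * h1⁻¹ * g') by group, map_mul, map_mul, Module.End.mul_apply,
      Module.End.mul_apply, fix_of_stab ρ x.2 _ ((hmemS _).mp hh2), hpr h1 hh1]
  set R := (Finset.univ : Finset (Matrix.SpecialLinearGroup (Fin (n + 1)) F)).image T with hR
  have hRcard : R.card ≤ Fintype.card F := by
    let sec : F → Module.End ℂ (Kfix ρ) := fun c => if h : ∃ g, inv g = c then T h.choose else 0
    have : R ⊆ Finset.univ.image sec := by
      intro s hs
      obtain ⟨g, -, rfl⟩ := Finset.mem_image.mp hs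
      have h : ∃ g', inv g' = inv g := ⟨g, rfl⟩
      exact Finset.mem_image.mpr ⟨inv g, Finset.mem_univ _, by
        simp only [sec, dif_pos h]; exact hfac _ _ h.choose_spec⟩
    exact (Finset.card_le_card this).trans Finset.card_image_le
  have hsum : ∑ g, T g = 0 := by
    refine LinearMap.ext fun x => Subtype.ext ?_
    rw [LinearMap.sum_apply, Submodule.coe_sum, LinearMap.zero_apply, Submodule.coe_zero]
    simp only [hT, ← map_sum]
    suffices ∑ g, ρ g (x : M) = 0 by rw [this, map_zero]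
    by_contra h0
    have := dim_one_of_fixed ρ hirr h0 fun a => by
      rw [map_sum]
      exact Fintype.sum_equiv (Equiv.mulLeft a) _ _ fun b => by
        rw [Equiv.coe_mulLeft, map_mul, Module.End.mul_apply]
    omega
  obtain ⟨s0, hs0⟩ : R.Nonempty := ⟨T 1, Finset.mem_image_of_mem T (Finset.mem_univ 1)⟩
  have hrel : s0 ∈ Submodule.span ℂ ((R.erase s0 : Finset _) : Set (Module.End ℂ (Kfix ρ))) := by
    set c : Module.End ℂ (Kfix ρ) → ℂ := fun s => ((Finset.univ.filter fun g => T g = s).card : ℂ) with hc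
    have hz : ∑ s ∈ R, c s • s = 0 := by
      rw [← hsum, ← Finset.sum_fiberwise_of_maps_to (g := T) (f := T) (fun g _ => Finset.mem_image_of_mem T (Finset.mem_univ g))]
      refine Finset.sum_congr rfl fun s _ => ?_
      rw [Finset.sum_congr rfl (fun g hg => (Finset.mem_filter.mp hg).2), Finset.sum_const,
        ← Nat.cast_smul_eq_nsmul ℂ]
    rw [← Finset.add_sum_erase R _ hs0] at hz
    have hc0 : c s0 ≠ 0 := by
      obtain ⟨g, -, hg⟩ := Finset.mem_image.mp hs0
      simp only [hc]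
      exact Nat.cast_ne_zero.mpr (Finset.card_pos.mpr ⟨g, Finset.mem_filter.mpr ⟨Finset.mem_univ g, hg⟩⟩).ne'
    rw [← Submodule.smul_mem_iff _ hc0, eq_neg_of_add_eq_zero_left hz]
    exact Submodule.neg_mem _ (Submodule.sum_mem _ fun s hs => Submodule.smul_mem _ _ (Submodule.subset_span hs))
  have hspan : Submodule.span ℂ ((R.erase s0 : Finset _) : Set (Module.End ℂ (Kfix ρ))) = ⊤ := by
    rw [eq_top_iff]
    intro f _
    have hir : Modular.Irred (ρ : Representation ℂ _ M) :=
      ⟨Module.nontrivial_of_finrank_pos (by omega : 0 < Module.finrank ℂ M), hirr⟩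
    obtain ⟨a, ha⟩ := Modular.density (ι := Unit) (M := fun _ => M) (ρ := fun _ => (ρ : Representation ℂ _ M))
      (fun _ => hir) (fun i j h => absurd (Subsingleton.elim i j) h)
      (fun _ => (Kfix ρ).subtype.comp (f.comp (p.codRestrict (Kfix ρ) hpK)))
    have hf : f = a.coeff.sum fun g c => c • T g := by
      refine LinearMap.ext fun x => Subtype.ext ?_
      rw [Finsupp.sum, LinearMap.sum_apply, Submodule.coe_sum]
      simp only [LinearMap.smul_apply, Submodule.coe_smul, hT, ← map_smul p, ← map_sum p]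
      have hax := LinearMap.congr_fun (ha ()) (x : M)
      rw [Representation.asAlgebraHom_def, MonoidAlgebra.lift_apply, Finsupp.sum, LinearMap.sum_apply] at hax
      simp only [LinearMap.smul_apply, LinearMap.comp_apply] at hax
      rw [hax]
      have : p.codRestrict (Kfix ρ) hpK (x : M) = x := Subtype.ext (hpid x x.2)
      rw [this]
      exact (hpid _ (f x).2).symm
    rw [hf]
    refine Submodule.sum_mem _ fun g _ => Submodule.smul_mem _ _ ?_
    by_cases hg : T g = s0
    · rw [hg]; exact hrel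
    · exact Submodule.subset_span (Finset.mem_erase.mpr ⟨hg, Finset.mem_image_of_mem T (Finset.mem_univ g)⟩)
  calc Module.finrank ℂ (Kfix ρ) ^ 2 = Module.finrank ℂ (Module.End ℂ (Kfix ρ)) := by
        rw [Module.finrank_linearMap, sq]
    _ = Module.finrank ℂ ↥(Submodule.span ℂ ((R.erase s0 : Finset _) : Set (Module.End ℂ (Kfix ρ)))) := by
        rw [hspan, finrank_top]
    _ ≤ (R.erase s0).card := finrank_span_finset_le_card _
    _ ≤ Fintype.card F - 1 := by rw [Finset.card_erase_of_mem hs0]; omega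

end Cfsg.Lib.SLMinDeg
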