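import Cfsg.Agent.Known.SLMinDegree.Sub

/-! Lower bounds for the root-fixed space when the smaller group moves it. -/

set_option autoImplicit false
set_option linter.unusedSectionVars false

open Matrix

namespace Cfsg.Lib.SLMinDeg

open Cfsg.Lib.RepEigen

universe u v

variable {F : Type u} [Field F] [Fintype F] {n : ℕ} {M : Type v} [AddCommGroup M] [Module ℂ M]
  [FiniteDimensional ℂ M] (ρ : Matrix.SpecialLinearGroup (Fin (n + 1)) F →* Module.End ℂ M)

/-- Diagonal elements preserve the root-fixed space. -/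
theorem dia_mem_Wsp (d : Fin (n + 1) → F) (hd : ∏ i, d i = 1) {x : M} (hx : x ∈ Wsp ρ) :
    ρ (dia d hd) x ∈ Wsp ρ := by
  have hd0 : ∀ i, d i ≠ 0 := fun i e => by
    rw [Finset.prod_eq_zero (Finset.mem_univ i) e] at hd; exact zero_ne_one hd
  refine map_mem_eig ρ (fun φ i => d 0 * φ i * (d i.succ)⁻¹) (fun φ => ⟨fun i => (d 0)⁻¹ * φ i * d i.succ, ?_⟩)
    (fun φ => ?_) (fun φ => by rw [AddChar.one_apply, AddChar.one_apply]) hx
  · funext i
    have := hd0 0
    have := hd0 i.succ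
    field_simp
  · rw [qf, qf, tv_conj]
    apply sl_ext
    simp only [coe_tv, coe_dia, dia_inv d hd (show ∏ i, (d i)⁻¹ = 1 by rw [Finset.prod_inv_distrib, hd, inv_one])]
    congr 1
    ext a b
    rw [vecMulVec_apply, vecMulVec_apply, mulVec_diagonal, vecMul_diagonal]
    cases b using Fin.cases with
    | zero => simp
    | succ b =>
      by_cases ha : a = 0
      · subst ha; simp; ring
      · simp [ha]

/-- The part of the root-fixed space fixed by the smaller group. -/
noncomputable def Kfix : Submodule ℂ M :=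
  Wsp ρ ⊓ ⨅ A : Matrix.SpecialLinearGroup (Fin n) F, LinearMap.ker (ρ (emb A) - 1)

theorem mem_Kfix {x : M} :
    x ∈ Kfix ρ ↔ x ∈ Wsp ρ ∧ ∀ A : Matrix.SpecialLinearGroup (Fin n) F, ρ (emb A) x = x := by
  simp [Kfix, Submodule.mem_iInf, sub_eq_zero]

/-- `W = (fixed) ⊕ (no fixed vectors)`. -/
theorem exists_nofix :
    ∃ X : Submodule ℂ M, (∀ A, ∀ x ∈ X, ρ (emb A) x ∈ X) ∧
      (∀ x ∈ X, (∀ A, ρ (emb A) x = x) → x = 0) ∧ ff ρ = Module.finrank ℂ (Kfix ρ) + Module.finrank ℂ X := by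
  classical
  set P : Module.End ℂ M := (Fintype.card (Matrix.SpecialLinearGroup (Fin n) F) : ℂ)⁻¹ •
    ∑ A : Matrix.SpecialLinearGroup (Fin n) F, ρ (emb A) with hP
  have hfix : ∀ x, (∀ A, ρ (emb A) x = x) → P x = x := fun x hx => by
    simp only [hP, LinearMap.smul_apply, LinearMap.sum_apply, hx, Finset.sum_const, Finset.card_univ,
      ← Nat.cast_smul_eq_nsmul ℂ, smul_smul]
    rw [inv_mul_cancel₀ (Nat.cast_ne_zero.mpr Fintype.card_ne_zero), one_smul]
  have hPfix : ∀ A x, ρ (emb A) (P x) = P x := fun A x => by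
    simp only [hP, LinearMap.smul_apply, LinearMap.sum_apply, map_smul, map_sum]
    congr 1
    refine Fintype.sum_equiv (Equiv.mulLeft A) _ _ fun B => ?_
    rw [Equiv.coe_mulLeft, map_mul, map_mul, Module.End.mul_apply]
  have hPinv : ∀ A x, P (ρ (emb A) x) = P x := fun A x => by
    simp only [hP, LinearMap.smul_apply, LinearMap.sum_apply]
    congr 1
    refine Fintype.sum_equiv (Equiv.mulRight A) _ _ fun B => ?_
    rw [Equiv.coe_mulRight, map_mul, map_mul, Module.End.mul_apply]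
  have hPW : ∀ x ∈ Wsp ρ, P x ∈ Wsp ρ := fun x hx => by
    simp only [hP, LinearMap.smul_apply, LinearMap.sum_apply]
    exact Submodule.smul_mem _ _ (Submodule.sum_mem _ fun A _ => emb_mem_Wsp ρ A hx)
  refine ⟨Wsp ρ ⊓ LinearMap.ker P, fun A x hx => ⟨emb_mem_Wsp ρ A hx.1, ?_⟩, fun x hx h => ?_, ?_⟩
  · show P (ρ (emb A) x) = 0
    rw [hPinv]; exact hx.2
  · rw [← hfix x h]; exact hx.2
  · have hsup : Kfix ρ ⊔ Wsp ρ ⊓ LinearMap.ker P = Wsp ρ := by
      refine le_antisymm (sup_le inf_le_left inf_le_left) fun x hx => ?_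
      rw [show x = P x + (x - P x) by abel]
      refine Submodule.add_mem_sup ((mem_Kfix ρ).mpr ⟨hPW x hx, fun A => hPfix A x⟩) ⟨?_, ?_⟩
      · exact Submodule.sub_mem _ hx (hPW x hx)
      · show P (x - P x) = 0
        rw [map_sub, hfix (P x) fun A => hPfix A x, sub_self]
    have hinf : Kfix ρ ⊓ (Wsp ρ ⊓ LinearMap.ker P) = ⊥ := (Submodule.eq_bot_iff _).mpr fun x hx => by
      rw [← hfix x ((mem_Kfix ρ).mp hx.1).2]; exact hx.2.2
    have := Submodule.finrank_sup_add_finrank_inf_eq (Kfix ρ) (Wsp ρ ⊓ LinearMap.ker P)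
    rw [hsup, hinf, finrank_bot, add_zero] at this
    exact this

/-- For `n = 2`, a moved root-fixed space has dimension at least `q - 1`. -/
theorem moved_two (ρ : Matrix.SpecialLinearGroup (Fin (2 + 1)) F →* Module.End ℂ M)
    (h : ∃ A : Matrix.SpecialLinearGroup (Fin 2) F, ∃ x ∈ Wsp ρ, ρ (emb A) x ≠ x) :
    Fintype.card F - 1 ≤ ff ρ := by
  classical
  obtain ⟨A₀, x₀, hx₀, hne₀⟩ := h
  have h01 : (0 : Fin 2) ≠ 1 := by decide
  set K := fixSub (ρ.comp (emb (n := 2))) (Wsp ρ : Set M) with hK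
  have hnorm : ∀ (w k : Matrix.SpecialLinearGroup (Fin 2) F), k ∈ K → w * k * w⁻¹ ∈ K := by
    intro w k hk x hx
    show ρ (emb (w * k * w⁻¹)) x = x
    rw [map_mul, map_mul, map_mul, map_mul, Module.End.mul_apply, Module.End.mul_apply]
    have h1 : ρ (emb k) (ρ (emb w⁻¹) x) = ρ (emb w⁻¹) x := hk _ (emb_mem_Wsp ρ w⁻¹ hx)
    rw [h1, ← Module.End.mul_apply, ← map_mul, ← map_mul, mul_inv_cancel, map_one, map_one]; rfl
  obtain ⟨c₀, x₁, hx₁, hne₁⟩ : ∃ c : F, ∃ x ∈ Wsp ρ,
      ρ (emb (Matrix.SpecialLinearGroup.transvection h01 c)) x ≠ x := by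
    by_contra hc
    push Not at hc
    have htop : K = ⊤ := Cfsg.Lib.Classical.eq_top_of_transvection_mem _ fun i j hij c => by
      by_cases hi : i = 0
      · subst hi
        obtain rfl : j = 1 := by omega
        exact fun x hx => hc c x hx
      · obtain rfl : i = 1 := by omega
        obtain rfl : j = 0 := by omega
        let w : Matrix.SpecialLinearGroup (Fin 2) F := ⟨!![0, 1; -1, 0], by simp [Matrix.det_fin_two]⟩
        have hw : w * Matrix.SpecialLinearGroup.transvection h01 (-c) * w⁻¹ =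
            Matrix.SpecialLinearGroup.transvection hij c := by
          rw [mul_inv_eq_iff_eq_mul]
          apply sl_ext
          rw [Matrix.SpecialLinearGroup.coe_mul, Matrix.SpecialLinearGroup.coe_mul,
            Matrix.SpecialLinearGroup.transvection_coe, Matrix.SpecialLinearGroup.transvection_coe]
          ext a b
          fin_cases a <;> fin_cases b <;> simp [w, Matrix.mul_apply, Fin.sum_univ_two, Matrix.single_apply]
        rw [← hw]
        exact hnorm w _ fun x hx => hc (-c) x hx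
    have hA : A₀ ∈ K := htop ▸ Subgroup.mem_top A₀
    exact hne₀ (hA x₀ hx₀)
  let f : F → Matrix.SpecialLinearGroup (Fin (2 + 1)) F := fun c =>
    Matrix.SpecialLinearGroup.transvection ((Fin.succ_injective 2).ne h01) c
  have hf : ∀ a b, f (a + b) = f a * f b := fun a b => by
    have hne := (Fin.succ_injective 2).ne h01
    show Matrix.SpecialLinearGroup.transvection hne (a + b) = Matrix.SpecialLinearGroup.transvection hne a *
      Matrix.SpecialLinearGroup.transvection hne b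
    apply sl_ext
    rw [Matrix.SpecialLinearGroup.coe_mul, Matrix.SpecialLinearGroup.transvection_coe,
      Matrix.SpecialLinearGroup.transvection_coe, Matrix.SpecialLinearGroup.transvection_coe,
      mul_add, add_mul, add_mul, one_mul, mul_one, Matrix.single_mul_single_of_ne _ _ _ _ hne.symm, Matrix.single_add]
    simp [add_assoc, add_comm, add_left_comm]
  have hinv : ∀ a, ∀ x ∈ Wsp ρ, ρ (f a) x ∈ Wsp ρ := fun a x hx => by
    show ρ (Matrix.SpecialLinearGroup.transvection _ a) x ∈ _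
    rw [← emb_transvection h01]; exact emb_mem_Wsp ρ _ hx
  obtain ⟨χ, hχ1, hχ⟩ := exists_eig_ne_one ρ hf (Wsp ρ) hinv hx₁ (a₀ := c₀)
    (show ρ (Matrix.SpecialLinearGroup.transvection _ c₀) x₁ ≠ x₁ by rw [← emb_transvection h01]; exact hne₁)
  have hprim : χ.IsPrimitive := AddChar.IsPrimitive.of_ne_one hχ1
  obtain ⟨x, hx, hx0⟩ := Submodule.exists_mem_ne_zero_of_ne_bot hχ
  have hall : ∀ t : F, t ≠ 0 → Wsp ρ ⊓ RepEigen.eig ρ f (AddChar.mulShift χ t) ≠ ⊥ := by
    intro t ht hb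
    have hd : ∏ i, (![t, t⁻¹, 1] : Fin (2 + 1) → F) i = 1 := by simp [Fin.prod_univ_three, ht]
    have hmem : ρ (dia ![t, t⁻¹, 1] hd) x ∈ RepEigen.eig ρ f (AddChar.mulShift χ t) := by
      refine map_mem_eig ρ (fun c => t⁻¹ * c) (fun c => ⟨t * c, by field_simp⟩) (fun c => ?_) (fun c => ?_) hx.2
      · show dia _ hd * Matrix.SpecialLinearGroup.transvection _ c * _ = Matrix.SpecialLinearGroup.transvection _ _
        rw [dia_conj_transvection]
        simp
      · rw [AddChar.mulShift_apply, mul_inv_cancel_left₀ ht]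
    refine hx0 (apply_injective ρ (dia ![t, t⁻¹, 1] hd) ?_)
    rw [map_zero]
    exact (Submodule.mem_bot ℂ).mp (hb ▸ Submodule.mem_inf.mpr ⟨dia_mem_Wsp ρ _ hd hx.1, hmem⟩)
  have hinj : Function.Injective (AddChar.mulShift χ) := AddChar.to_mulShift_inj_of_isPrimitive hprim
  calc Fintype.card F - 1 = ∑ t ∈ (Finset.univ.erase (0 : F)), 1 := by
        rw [← Finset.card_eq_sum_ones, Finset.card_erase_of_mem (Finset.mem_univ _), Finset.card_univ]
    _ ≤ ∑ t ∈ (Finset.univ.erase (0 : F)),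
          Module.finrank ℂ ↥(Wsp ρ ⊓ RepEigen.eig ρ f (AddChar.mulShift χ t)) :=
        Finset.sum_le_sum fun t ht => Nat.one_le_iff_ne_zero.mpr fun h =>
          hall t (Finset.ne_of_mem_erase ht) (Submodule.finrank_eq_zero.mp h)
    _ = ∑ ψ ∈ (Finset.univ.erase (0 : F)).image (AddChar.mulShift χ),
          Module.finrank ℂ ↥(Wsp ρ ⊓ RepEigen.eig ρ f ψ) :=
        (Finset.sum_image (f := fun ψ => Module.finrank ℂ ↥(Wsp ρ ⊓ RepEigen.eig ρ f ψ)) fun a _ b _ e => hinj e).symm
    _ ≤ ∑ ψ : AddChar F ℂ, Module.finrank ℂ ↥(Wsp ρ ⊓ RepEigen.eig ρ f ψ) :=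
        Finset.sum_le_sum_of_subset (Finset.subset_univ _)
    _ ≤ ff ρ := sum_finrank_eig_le ρ hf (Wsp ρ)

end Cfsg.Lib.SLMinDeg
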