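import Cfsg.Agent.Known.SLMinDegree.Gen
import Cfsg.Agent.Known.SLMinDegree.Root
import Cfsg.Agent.Chars.Count

/-! Structure of a representation of `SL (n + 1)` restricted to a root subgroup. -/

set_option autoImplicit false
set_option linter.unusedSectionVars false

open Matrix
open scoped commutatorElement

namespace Cfsg.Lib.SLMinDeg

open Cfsg.Lib.RepEigen

/-- The elements fixing `X` pointwise. -/
def fixSub {G M : Type*} [Group G] [AddCommGroup M] [Module ℂ M] (ρ : G →* Module.End ℂ M)
    (X : Set M) : Subgroup G where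
  carrier := {g | ∀ x ∈ X, ρ g x = x}
  one_mem' := fun x _ => by rw [map_one]; rfl
  mul_mem' := fun {a b} ha hb x hx => by rw [map_mul, Module.End.mul_apply, hb x hx, ha x hx]
  inv_mem' := fun {a} ha x hx => by
    conv_lhs => rw [← ha x hx]
    rw [← Module.End.mul_apply, ← map_mul, inv_mul_cancel, map_one]; rfl

variable {F : Type*} [Field F] [Fintype F] {n : ℕ}

local notation "G" => Matrix.SpecialLinearGroup (Fin (n + 1)) F

variable {M : Type*} [AddCommGroup M] [Module ℂ M] [FiniteDimensional ℂ M]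
  (ρ : Matrix.SpecialLinearGroup (Fin (n + 1)) F →* Module.End ℂ M)

/-- The vectors fixed by the root subgroup. -/
noncomputable def Wsp (ρ : G →* Module.End ℂ M) : Submodule ℂ M := RepEigen.eig ρ (qf : (Fin n → F) → G) (1 : AddChar (Fin n → F) ℂ)

/-- Their dimension. -/
noncomputable def ff (ρ : G →* Module.End ℂ M) : ℕ := Module.finrank ℂ (Wsp ρ)

/-- The multiplicity of a non-trivial character. -/
noncomputable def mm (ρ : G →* Module.End ℂ M) (hn : 2 ≤ n) : ℕ :=
  Module.finrank ℂ (RepEigen.eig ρ (qf : (Fin n → F) → G) (psiv (Pi.single ⟨0, by omega⟩ 1)))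

theorem mem_Wsp {x : M} : x ∈ Wsp ρ ↔ ∀ φ : Fin n → F, ρ (qf φ) x = x := by
  simp [Wsp, RepEigen.mem_eig]

theorem emb_map_eig (A : Matrix.SpecialLinearGroup (Fin n) F) (v : Fin n → F) {x : M}
    (hx : x ∈ RepEigen.eig ρ (qf : (Fin n → F) → G) (psiv v)) :
    ρ (emb A) x ∈ RepEigen.eig ρ (qf : (Fin n → F) → G) (psiv ((A : Matrix (Fin n) (Fin n) F) *ᵥ v)) := by
  refine map_mem_eig ρ (fun φ : Fin n → F =>
      φ ᵥ* ((A⁻¹ : Matrix.SpecialLinearGroup (Fin n) F) : Matrix (Fin n) (Fin n) F))
    (fun b => ⟨b ᵥ* (A : Matrix (Fin n) (Fin n) F), ?_⟩) (emb_conj_qf A) (psiv_conj A v) hx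
  beta_reduce
  rw [vecMul_vecMul, ← Matrix.SpecialLinearGroup.coe_mul, mul_inv_cancel,
    Matrix.SpecialLinearGroup.coe_one, vecMul_one]

theorem emb_mem_Wsp (A : Matrix.SpecialLinearGroup (Fin n) F) {x : M} (hx : x ∈ Wsp ρ) :
    ρ (emb A) x ∈ Wsp ρ := by
  rw [Wsp, ← psiv_zero] at hx ⊢
  have := emb_map_eig ρ A 0 hx
  rwa [mulVec_zero] at this

theorem finrank_eig_psiv (hn : 2 ≤ n) {v : Fin n → F} (hv : v ≠ 0) :
    Module.finrank ℂ (RepEigen.eig ρ (qf : (Fin n → F) → G) (psiv v)) = mm ρ hn := by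
  have h1 : ∃ k : Fin n, k ≠ ⟨0, by omega⟩ := ⟨⟨1, by omega⟩, by simp⟩
  obtain ⟨A, hA⟩ := exists_mulVec_eq hv ⟨0, by omega⟩ h1
  apply le_antisymm
  · refine finrank_le_of_map_mem ρ (g := emb A⁻¹) fun x hx => ?_
    have := emb_map_eig ρ A⁻¹ v hx
    rwa [← hA, mulVec_mulVec, ← Matrix.SpecialLinearGroup.coe_mul, inv_mul_cancel,
      Matrix.SpecialLinearGroup.coe_one, one_mulVec] at this
  · refine finrank_le_of_map_mem ρ (g := emb A) fun x hx => ?_
    have := emb_map_eig ρ A _ hx
    rwa [hA] at this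

theorem dim_eq (hn : 2 ≤ n) :
    Module.finrank ℂ M = ff ρ + mm ρ hn * (Fintype.card F ^ n - 1) := by
  classical
  rw [← sum_finrank_eig ρ (qf_add (F := F) (n := n)),
    ← Function.Bijective.sum_comp ⟨psiv_injective (F := F) (n := n), psiv_surjective⟩,
    ← Finset.add_sum_erase _ _ (Finset.mem_univ (0 : Fin n → F)), psiv_zero,
    Finset.sum_congr rfl (fun v hv => finrank_eig_psiv ρ hn (Finset.ne_of_mem_erase hv)),
    Finset.sum_const, Finset.card_erase_of_mem (Finset.mem_univ _), Finset.card_univ, Fintype.card_fun,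
    Fintype.card_fin, smul_eq_mul, mul_comm]
  rfl

theorem trace_qf (hn : 2 ≤ n) {φ : Fin n → F} (hφ : φ ≠ 0) :
    LinearMap.trace ℂ M (ρ (qf φ)) = (ff ρ : ℂ) - (mm ρ hn : ℂ) := by
  classical
  have h := finrank_eig_one_of_trace ρ (qf_add (F := F) (n := n))
    (τ := LinearMap.trace ℂ M (ρ (qf φ))) fun a ha =>
      trace_eq_of_isConj ρ (((isConj_qf hn ha).symm).trans (isConj_qf hn hφ))
  have hd : (Module.finrank ℂ M : ℂ) = (ff ρ : ℂ) + (mm ρ hn : ℂ) * ((Fintype.card F : ℂ) ^ n - 1) := by
    rw [dim_eq ρ hn, Nat.cast_add, Nat.cast_mul, Nat.cast_sub (Nat.one_le_pow _ _ Fintype.card_pos)]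
    push_cast; rfl
  rw [hd, Fintype.card_fun, Fintype.card_fin, Nat.cast_pow] at h
  have hQ : ((Fintype.card F : ℂ) ^ n - 1) ≠ 0 := by
    rw [sub_ne_zero]
    exact_mod_cast (Nat.one_lt_pow (by omega) Fintype.one_lt_card).ne'
  change _ * (ff ρ : ℂ) = _ at h
  apply mul_left_cancel₀ hQ
  linear_combination -h

/-! ### Consequences of irreducibility -/

variable (hirr : ∀ U : Submodule ℂ M, (∀ g, ∀ x ∈ U, ρ g x ∈ U) → U = ⊥ ∨ U = ⊤)

/-- The transvection `1 + v ⊗ eⱼ` with `v j = 0`. -/
def cl (j : Fin (n + 1)) (v : Fin n → F) : G :=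
  tv (Fin.insertNth j 0 v) (Pi.single j 1)
    (by rw [single_dotProduct, Fin.insertNth_apply_same, mul_zero])

theorem cl_add (j : Fin (n + 1)) (v w : Fin n → F) : (cl j (v + w) : G) = cl j v * cl j w := by
  rw [cl, cl, cl, ← tv_add_left]
  refine tv_congr (funext ((Fin.forall_iff_succAbove j).mpr ⟨?_, fun i => ?_⟩)) rfl
  · simp
  · simp

theorem tv_single' {ι : Type*} [Fintype ι] [DecidableEq ι] {i j : ι} (hij : i ≠ j) (c : F)
    (h : (Pi.single j 1 : ι → F) ⬝ᵥ (Pi.single i c) = 0) :
    (tv (Pi.single i c) (Pi.single j 1) h : Matrix.SpecialLinearGroup ι F) =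
      Matrix.SpecialLinearGroup.transvection hij c := by
  apply sl_ext
  rw [coe_tv, Matrix.SpecialLinearGroup.transvection_coe]
  congr 1
  ext a b
  simp only [vecMulVec_apply, Matrix.single_apply, Pi.single_apply]
  by_cases h1 : a = i <;> by_cases h2 : b = j <;> simp_all [eq_comm]

theorem cl_single (j : Fin (n + 1)) (i : Fin n) (c : F) :
    (cl j (Pi.single i c) : G) = Matrix.SpecialLinearGroup.transvection (Fin.succAbove_ne j i) c := by
  rw [cl, ← tv_single' (Fin.succAbove_ne j i) c (single_dot_single (Fin.succAbove_ne j i) 1 c)]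
  refine tv_congr (funext ((Fin.forall_iff_succAbove j).mpr ⟨?_, fun k => ?_⟩)) rfl
  · simp [(Fin.succAbove_ne j i).symm]
  · simp [Pi.single_apply]

theorem fix_cl {x : M} (j : Fin (n + 1))
    (h : ∀ (i : Fin (n + 1)) (hij : i ≠ j) (c : F),
      ρ (Matrix.SpecialLinearGroup.transvection hij c) x = x) :
    x ∈ RepEigen.eig ρ (cl j : (Fin n → F) → G) (1 : AddChar (Fin n → F) ℂ) := by
  classical
  rw [RepEigen.mem_eig]
  intro v
  rw [AddChar.one_apply, one_smul]
  suffices ∀ s : Finset (Fin n), ρ (cl j (∑ i ∈ s, Pi.single i (v i))) x = x by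
    have := this Finset.univ
    rwa [Finset.univ_sum_single] at this
  intro s
  induction s using Finset.induction with
  | empty =>
    rw [Finset.sum_empty, hom_zero (cl_add (F := F) j), map_one]; rfl
  | insert a s ha ih =>
    rw [Finset.sum_insert ha, cl_add, map_mul, Module.End.mul_apply, ih, cl_single, h]

theorem cl_fix {x : M} {j : Fin (n + 1)} (hx : x ∈ RepEigen.eig ρ (cl j : (Fin n → F) → G) (1 : AddChar (Fin n → F) ℂ))
    {v : Fin (n + 1) → F} (hv : v j = 0) (h : (Pi.single j 1 : Fin (n + 1) → F) ⬝ᵥ v = 0) :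
    ρ (tv v (Pi.single j 1) h) x = x := by
  rw [RepEigen.mem_eig] at hx
  have := hx (j.removeNth v)
  rw [AddChar.one_apply, one_smul] at this
  convert this using 4
  refine tv_congr (funext ((Fin.forall_iff_succAbove j).mpr ⟨?_, fun k => ?_⟩)) rfl
  · simpa using hv
  · simp [Fin.removeNth]

theorem finrank_cl (hn : 2 ≤ n) (j : Fin (n + 1)) :
    Module.finrank ℂ (RepEigen.eig ρ (cl j : (Fin n → F) → G) (1 : AddChar (Fin n → F) ℂ)) = ff ρ := by
  classical
  set e : Fin n → F := Pi.single ⟨0, by omega⟩ 1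
  have h1 := finrank_eig_one_of_trace ρ (cl_add (F := F) j) (τ := LinearMap.trace ℂ M (ρ (qf e)))
    fun a ha => trace_eq_of_isConj ρ (IsConj.symm (isConj_tv hn _ (fun h => ha (funext fun i => by
      simpa using congrFun h (j.succAbove i))) (by simp)))
  have h2 := finrank_eig_one_of_trace ρ (qf_add (F := F) (n := n)) (τ := LinearMap.trace ℂ M (ρ (qf e)))
    fun a ha => trace_eq_of_isConj ρ (isConj_qf hn ha).symm
  have h3 := h1.trans h2.symm
  exact_mod_cast mul_left_cancel₀ (Nat.cast_ne_zero.mpr Fintype.card_ne_zero) h3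

include hirr

theorem dim_one_of_fixed {x : M} (hx0 : x ≠ 0) (hfix : ∀ g, ρ g x = x) : Module.finrank ℂ M = 1 := by
  rcases hirr (Submodule.span ℂ {x}) (fun g y hy => by
    obtain ⟨c, rfl⟩ := Submodule.mem_span_singleton.mp hy
    rw [map_smul, hfix]; exact hy) with h | h
  · exact absurd (Submodule.span_singleton_eq_bot.mp h) hx0
  · rw [← finrank_top ℂ M, ← h, finrank_span_singleton hx0]

theorem mm_pos (hn : 2 ≤ n) (hd : 2 ≤ Module.finrank ℂ M) : 1 ≤ mm ρ hn := by
  classical
  by_contra hc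
  have h0 := dim_eq ρ hn
  rw [show mm ρ hn = 0 by omega, zero_mul, add_zero] at h0
  have htop : Wsp ρ = ⊤ := Submodule.eq_top_of_finrank_eq h0.symm
  have hq : ∀ φ : Fin n → F, ρ (qf φ) = 1 := fun φ => LinearMap.ext fun x =>
    (mem_Wsp ρ).mp (htop ▸ Submodule.mem_top) φ
  have hS : fixSub ρ (Set.univ : Set M) = ⊤ :=
    Cfsg.Lib.Classical.eq_top_of_transvection_mem _ fun i j hij c x _ => by
      by_cases hc : c = 0
      · subst hc
        rw [show Matrix.SpecialLinearGroup.transvection hij (0 : F) = 1 by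
          apply sl_ext; simp [Matrix.SpecialLinearGroup.transvection_coe], map_one]; rfl
      rw [← tv_single hij c (single_dot_single hij c 1)]
      obtain ⟨g, hg⟩ := isConj_iff.mp (isConj_tv hn (single_dot_single hij c (1 : F)) (by simp)
        (by simp [hc]))
      rw [← hg, map_mul, map_mul, hq, mul_one, ← map_mul, mul_inv_cancel, map_one]; rfl
  have : Nontrivial M := Module.nontrivial_of_finrank_pos (by omega : 0 < Module.finrank ℂ M)
  obtain ⟨x, hx⟩ := exists_ne (0 : M)
  have := dim_one_of_fixed ρ hirr hx fun g => by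
    have hg : g ∈ fixSub ρ (Set.univ : Set M) := hS ▸ Subgroup.mem_top g
    exact hg x trivial
  omega

theorem moved (hn : 2 ≤ n) (hd : 2 ≤ Module.finrank ℂ M) (hf : ff ρ ≠ 0) :
    ∃ A : Matrix.SpecialLinearGroup (Fin n) F, ∃ x ∈ Wsp ρ, ρ (emb A) x ≠ x := by
  classical
  by_contra hc
  push Not at hc
  set i1 : Fin (n + 1) := (⟨0, by omega⟩ : Fin n).succ with hi1
  set i2 : Fin (n + 1) := (⟨1, by omega⟩ : Fin n).succ with hi2
  have h12 : i1 ≠ i2 := by simp [hi1, hi2]
  have h10 : i1 ≠ 0 := Fin.succ_ne_zero _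
  have h20 : i2 ≠ 0 := Fin.succ_ne_zero _
  set K := fixSub ρ (Wsp ρ : Set M)
  have hKe : ∀ (i j : Fin n) (hij : i ≠ j) (c : F),
      Matrix.SpecialLinearGroup.transvection ((Fin.succ_injective n).ne hij) c ∈ K := fun i j hij c x hx => by
    rw [← emb_transvection hij]; exact hc _ x hx
  have hK0 : ∀ (j : Fin n) (c : F),
      Matrix.SpecialLinearGroup.transvection (Fin.succ_ne_zero j).symm c ∈ K := fun j c x hx => by
    rw [← qf_single]; exact (mem_Wsp ρ).mp hx _
  have hle : Wsp ρ ≤ RepEigen.eig ρ (cl i1 : (Fin n → F) → G) (1 : AddChar (Fin n → F) ℂ) := fun x hx => fix_cl ρ i1 fun i hij c => by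
    cases i using Fin.cases with
    | zero => exact hK0 _ c x hx
    | succ i => exact hKe i _ (fun h => hij (congrArg Fin.succ h)) c x hx
  have heq : RepEigen.eig ρ (cl i1 : (Fin n → F) → G) (1 : AddChar (Fin n → F) ℂ) = Wsp ρ :=
    (Submodule.eq_of_le_of_finrank_eq hle (finrank_cl ρ hn i1).symm).symm
  have hg : ∀ (s : F) (x : M), x ∈ Wsp ρ →
      ρ (Matrix.SpecialLinearGroup.transvection h20 s) x ∈ Wsp ρ := by
    intro s x hx
    rw [← heq] at hx ⊢
    refine fix_cl ρ i1 fun i hij c => ?_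
    have key : (Matrix.SpecialLinearGroup.transvection h20 s : G)⁻¹ *
        Matrix.SpecialLinearGroup.transvection hij c * Matrix.SpecialLinearGroup.transvection h20 s ∈
        fixSub ρ ({x} : Set M) := by
      intro y hy
      rw [Set.mem_singleton_iff] at hy; subst hy
      rw [Matrix.SpecialLinearGroup.transvection_inv]
      conv_lhs => arg 1; arg 2; arg 2; rw [show Matrix.SpecialLinearGroup.transvection h20 s =
        (Matrix.SpecialLinearGroup.transvection h20 (-s) : G)⁻¹ by
          rw [Matrix.SpecialLinearGroup.transvection_inv, neg_neg]]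
      rw [← tv_single' hij c (single_dot_single hij 1 c), tv_conj,
        tv_congr (u' := (Matrix.SpecialLinearGroup.transvection h20 (-s) : Matrix (Fin (n + 1)) (Fin (n + 1)) F) *ᵥ
          Pi.single i c) (φ' := Pi.single i1 1) (h' := ?_) rfl ?_]
      · refine cl_fix ρ hx ?_ _
        rw [mulVec_transvection, Pi.add_apply, Pi.single_eq_of_ne hij.symm, Pi.single_eq_of_ne h12,
          add_zero]
      · rw [single_dotProduct, mulVec_transvection, Pi.add_apply, Pi.single_eq_of_ne hij.symm,
          Pi.single_eq_of_ne h12, add_zero, mul_zero]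
      · rw [Matrix.SpecialLinearGroup.transvection_inv, vecMul_transvection, Pi.single_eq_of_ne h12.symm,
          zero_mul, Pi.single_zero, add_zero]
    have := key x rfl
    rw [map_mul, map_mul, Module.End.mul_apply, Module.End.mul_apply] at this
    have h' := congrArg (ρ (Matrix.SpecialLinearGroup.transvection h20 s)) this
    rwa [← Module.End.mul_apply, ← map_mul, mul_inv_cancel, map_one, Module.End.one_apply] at h'
  have h10K : ∀ c : F, Matrix.SpecialLinearGroup.transvection h10 c ∈ K := by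
    intro c
    set g : G := Matrix.SpecialLinearGroup.transvection h20 1 with hgdef
    have h1 : g * Matrix.SpecialLinearGroup.transvection h12 (-c) * g⁻¹ ∈ K := by
      intro x hx
      have hx' : ρ g⁻¹ x ∈ Wsp ρ := by
        rw [hgdef, Matrix.SpecialLinearGroup.transvection_inv]; exact hg _ x hx
      rw [map_mul, map_mul, Module.End.mul_apply, Module.End.mul_apply,
        show ρ (Matrix.SpecialLinearGroup.transvection h12 (-c)) (ρ g⁻¹ x) = ρ g⁻¹ x from
          hKe ⟨0, by omega⟩ ⟨1, by omega⟩ (by simp) (-c) _ hx',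
        ← Module.End.mul_apply, ← map_mul, mul_inv_cancel, map_one]; rfl
    have h2 : g * Matrix.SpecialLinearGroup.transvection h12 (-c) * g⁻¹ =
        Matrix.SpecialLinearGroup.transvection h12 (-c) * Matrix.SpecialLinearGroup.transvection h10 c := by
      rw [← tv_single h12 (-c) (single_dot_single h12 _ 1), ← tv_single h10 c (single_dot_single h10 c 1),
        tv_conj, ← tv_add_right]
      refine tv_congr ?_ ?_
      · rw [hgdef, mulVec_transvection, Pi.single_eq_of_ne h10.symm, mul_zero, Pi.single_zero, add_zero]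
      · rw [hgdef, Matrix.SpecialLinearGroup.transvection_inv, vecMul_transvection, Pi.single_eq_same,
          neg_mul_neg, mul_one]
    rw [h2] at h1
    exact (K.mul_mem_cancel_left (hKe ⟨0, by omega⟩ ⟨1, by omega⟩ (by simp) (-c))).mp h1
  have hall : K = ⊤ := Cfsg.Lib.Classical.eq_top_of_transvection_mem _ fun i j hij c => by
    cases i using Fin.cases with
    | zero =>
      cases j using Fin.cases with
      | zero => exact absurd rfl hij
      | succ j => exact hK0 j c
    | succ i =>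
      cases j using Fin.cases with
      | succ j => exact hKe i j (fun h => hij (congrArg Fin.succ h)) c
      | zero =>
        by_cases hi : i = ⟨0, by omega⟩
        · subst hi; exact h10K c
        · have hne : (i.succ : Fin (n + 1)) ≠ i1 := fun h => hi (Fin.succ_injective n h)
          rw [← Cfsg.Lib.Classical.transvection_commutator hne h10 hij c, commutatorElement_def]
          exact K.mul_mem (K.mul_mem (K.mul_mem (hKe i _ hi c) (h10K 1)) (K.inv_mem (hKe i _ hi c)))
            (K.inv_mem (h10K 1))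
  have hne : Wsp ρ ≠ ⊥ := fun h => hf (by rw [ff, h, finrank_bot])
  obtain ⟨x, hx, hx0⟩ := Submodule.exists_mem_ne_zero_of_ne_bot hne
  have := dim_one_of_fixed ρ hirr hx0 fun g => by
    have hg : g ∈ K := hall ▸ Subgroup.mem_top g
    exact hg x hx
  omega

end Cfsg.Lib.SLMinDeg
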